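import Cfsg.Agent.Known.Pn.Tr

/-!
Two plane involutions whose product has order four.
-/

set_option autoImplicit false
set_option linter.unusedSectionVars false

namespace CF.PnSp

open CF.Loc Subgroup

variable {G F V : Type*} [Group G] [Field F] [AddCommGroup V] [Module F V] [DistribMulAction G V]
  [SMulCommClass G F V] {B : LinearMap.BilinForm F V} {ι : Type} [Fintype ι] [DecidableEq ι]

theorem Sy.mul_sq (h : Sy G B) {z w : G} (hz : z * z = 1) (hw : w * w = 1) (ho : Orth V z w) :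
    z * w * (z * w) = 1 := by
  rw [mul_assoc, ← mul_assoc w, ← h.orth_comm hz hw ho, mul_assoc z w w, hw, mul_one, hz]

theorem Sy.gam_le_left (h : Sy G B) {z w : G} (hz : z * z = 1) (hw : w * w = 1) (ho : Orth V z w) :
    Gam V z ≤ Gam V (z * w) := fun _ hx v hv => hx v ((h.plus_mul_iff hz hw ho).1 hv).1

theorem Sy.gam_le_right (h : Sy G B) {z w : G} (hz : z * z = 1) (hw : w * w = 1) (ho : Orth V z w) :
    Gam V w ≤ Gam V (z * w) := fun _ hx v hv => hx v ((h.plus_mul_iff hz hw ho).1 hv).2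

theorem Sy.gam_ext2 (h : Sy G B) {z w x y : G} (hz : z * z = 1) (hw : w * w = 1) (ho : Orth V z w)
    (hx : x ∈ Gam V (z * w)) (hy : y ∈ Gam V (z * w)) (h1 : ∀ m : V, z • m = -m → x • m = y • m)
    (h2 : ∀ m : V, w • m = -m → x • m = y • m) : x = y := by
  refine h.gam_ext (h.mul_sq hz hw ho) hx hy fun v hv => ?_
  obtain ⟨p, m, hp, hm, rfl⟩ := h.dec hz v
  rw [h.orth_comm hz hw ho, mul_smul, smul_add, hp, hm, smul_add, smul_neg,
    h.orth_symm hw ho m hm, neg_add, add_left_inj] at hv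
  rw [smul_add, smul_add, h1 m hm, h2 p hv]

theorem Sy.sylC (h : Sy G B) (fu : Full G B) {z t : G} (hz : z * z = 1) (ht : t * t = 1)
    (ho : Orth V z (t * z * t⁻¹)) {K T : Subgroup G} (htK : t ∈ K) (hT : IsSyl 2 T (Gam V z))
    (hTK : T ≤ K) : ∃ Q, IsSyl 2 Q (K ⊓ (centralizer {z} ⊓ centralizer {t}) ⊓
      Gam V (z * (t * z * t⁻¹))) ∧ (∀ w ∈ K ⊓ (centralizer {z} ⊓ centralizer {t}) ⊓
      Gam V (z * (t * z * t⁻¹)), w ∈ Q ↔ ∃ r ∈ T, ∀ m : V, z • m = -m → w • m = r • m) ∧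
      ∀ r ∈ T, r * (t * r * t⁻¹) ∈ Q := by
  obtain ⟨res, hres⟩ := h.exists_res fu hz
  set C := K ⊓ (centralizer {z} ⊓ centralizer {t}) ⊓ Gam V (z * (t * z * t⁻¹))
  have hC : C ≤ centralizer {z} := inf_le_left.trans (inf_le_right.trans inf_le_left)
  have hti : t⁻¹ = t := inv_eq_of_mul_eq_one_left ht
  have hz' : t * z * t⁻¹ * (t * z * t⁻¹) = 1 := by rw [conj_mul, hz]; simp
  let ρ : C →* G := res.comp (inclusion hC)
  have h1 : ∀ w : C, ρ w ∈ Gam V z := fun w => (hres _).1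
  have h2 : ∀ (w : C) (m : V), z • m = -m → ρ w • m = (w : G) • m := fun w => (hres _).2
  have hρ : Function.Injective ρ := by
    rw [injective_iff_map_eq_one]
    intro w hw
    have h3 : ∀ m : V, z • m = -m → (w : G) • m = (1 : G) • m := fun m hm => by
      rw [← h2 w m hm, hw]
    refine Subtype.ext (h.gam_ext2 hz hz' ho w.2.2 (one_mem _) h3 fun m hm => ?_)
    have h4 := conj_minus t⁻¹ hm
    simp only [mul_smul, inv_inv, inv_smul_smul] at h4
    have h5 := congrArg (t • ·) (h3 _ h4)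
    simp only [one_smul, smul_inv_smul] at h5
    rw [← mul_smul, ← mem_centralizer_singleton_iff.1 w.2.1.2.2, mul_smul, smul_inv_smul] at h5
    exact h5.trans (one_smul G m).symm
  have h3 : ∀ r ∈ T, ∃ w : C, (w : G) = r * (t * r * t⁻¹) ∧ ρ w = r := by
    intro r hr
    have a1 := hT.le hr
    have a2 := conj_mem_Gam t a1
    have a3 := h.gam_commute hz hz' ho a1 a2
    refine ⟨⟨r * (t * r * t⁻¹), mem_inf.2 ⟨mem_inf.2 ⟨mul_mem (hTK hr)
      (mul_mem (mul_mem htK (hTK hr)) (inv_mem htK)), mem_inf.2 ⟨mul_mem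
      (mem_centralizer_singleton_iff.2 (h.gam_comm hz a1)) (mem_centralizer_singleton_iff.2
      (h.gam_commute hz hz' ho (self_mem_Gam z) a2).symm), mem_centralizer_singleton_iff.2 ?_⟩⟩,
      mul_mem (h.gam_le_left hz hz' ho a1) (h.gam_le_right hz hz' ho a2)⟩⟩, rfl,
      h.gam_ext hz (h1 _) a1 fun m hm => ?_⟩
    · rw [hti] at a3 ⊢
      calc r * (t * r * t) * t = (t * t) * r * (t * r * t) * t := by rw [ht, one_mul]
        _ = t * (t * r * t * r) * (t * t) := by group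
        _ = _ := by rw [← a3, ht, mul_one]
    · rw [h2 _ m hm, mul_smul, a2 m (h.orth_symm hz' ho m hm)]
  refine ⟨(T.comap ρ).map C.subtype, ⟨map_subtype_le _,
    (hT.isPGroup.comap_of_injective _ hρ).map _, fun Q hQ h4 h5 => le_antisymm (fun w hw => ?_) h4⟩,
    fun w hw => ⟨?_, fun ⟨r, hr, H⟩ => ⟨⟨w, hw⟩, ?_, rfl⟩⟩, fun r hr => ?_⟩
  · have := hT.eq_of_le ((isPGroup_subgroupOf (L := C) hQ).map ρ) (fun r hr => by
      obtain ⟨w, -, e⟩ := h3 r hr
      exact ⟨w, h4 ⟨w, show ρ w ∈ T from e ▸ hr, rfl⟩, e⟩) (by rintro _ ⟨w, -, rfl⟩; exact h1 w)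
    exact ⟨⟨w, h5 hw⟩, show ρ _ ∈ T from this ▸ mem_map_of_mem ρ hw, rfl⟩
  · rintro ⟨w, hw', rfl⟩
    exact ⟨ρ w, hw', fun m hm => (h2 w m hm).symm⟩
  · change ρ _ ∈ T
    rwa [h.gam_ext hz (h1 ⟨w, hw⟩) (hT.le hr) fun m hm => (h2 _ m hm).trans (H m hm)]
  · obtain ⟨w, e, e'⟩ := h3 r hr
    exact ⟨w, show ρ w ∈ T from e' ▸ hr, e⟩

theorem Sy.match [Finite G] (h : Sy G B) (fu : Full G B) {z t : G} (hz : PI B z) (ht : PI B t)
    (ho : Orth V z (t * z * t⁻¹)) {K T T' : Subgroup G} (hzK : z ∈ K) (htK : t ∈ K)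
    (hT : IsSyl 2 T (Gam V z)) (hTK : T ≤ K) (hT' : IsSyl 2 T' (Gam V t)) (hTK' : T' ≤ K) {r : G}
    (hr : r ∈ T) : ∃ r' ∈ K ⊓ Gam V t, ∀ m : V, t • m = -m → r' • m = (r * (t * r * t⁻¹)) • m := by
  have hzi := hz.inv_eq h
  have hti := ht.inv_eq h
  have h1 := h.orth_comm (hz.sq h) ((hz.conj h t).sq h) ho
  have e : t * (z * t * z⁻¹) = z * (t * z * t⁻¹) := by rw [h1, hzi, hti]; group
  have ho' : Orth V t (z * t * z⁻¹) := by
    refine (ht.eq_or_orth h (ht.conj h z) (by rw [e, hzi, hti]; group)).resolve_left fun e' => ?_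
    rw [← e', ht.sq h, eq_comm, mul_eq_one_iff_inv_eq, hzi] at e
    rw [← e] at ho
    exact hz.not_orth_self h ho
  obtain ⟨Q, h2, -, h3⟩ := h.sylC fu (hz.sq h) (ht.sq h) ho htK hT hTK
  obtain ⟨Q', h4, h5, -⟩ := h.sylC fu (ht.sq h) (hz.sq h) ho' hzK hT' hTK'
  rw [e, inf_comm (centralizer {t})] at h4 h5
  obtain ⟨l, hl, e'⟩ := h4.conj h2
  have h6 := h3 r hr
  rw [← e', mem_cj] at h6
  obtain ⟨s, hs, H⟩ := (h5 _ (h4.le h6)).1 h6
  have h7 := mem_centralizer_singleton_iff.1 hl.1.2.2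
  have hl' : l ∈ K := hl.1.1
  refine ⟨l * s * l⁻¹, mem_inf.2 ⟨mul_mem (mul_mem hl' (hTK' hs)) (inv_mem hl'), ?_⟩, fun m hm => ?_⟩
  · have := conj_mem_Gam l (hT'.le hs)
    rwa [h7, mul_inv_cancel_right] at this
  · have := H _ (minus_of_comm (mem_centralizer_singleton_iff.1 (inv_mem hl.1.2.2)) hm)
    rw [mul_smul, mul_smul, ← this]
    simp only [mul_smul, smul_inv_smul]

theorem QD.omega (h : Sy G B) {z i j t i' j' : G} {T : Subgroup G} (Q : QD B z T i j)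
    (ht : t * t = 1) (ho : Orth V z (t * z * t⁻¹)) (hi : i' ∈ Gam V t) (hj : j' ∈ Gam V t)
    (hi' : ∀ m : V, t • m = -m → i' • m = (i * (t * i * t⁻¹)) • m)
    (hj' : ∀ m : V, t • m = -m → j' • m = (j * (t * j * t⁻¹)) • m) {m : V} (hm : z • m = -m) :
    (i * z * j' * i * i' * j' * i) • m = (2 : F)⁻¹ • (m + i • m + j • m + i • j • m) ∧
    (i * z * j' * i * i' * j' * i) • t • m = t • (2 : F)⁻¹ • (m + i • m + j • m + i • j • m) := by
  have h2 := h.two
  have hti : t⁻¹ = t := inv_eq_of_mul_eq_one_left ht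
  have tt : ∀ v : V, t • t • v = v := fun v => by rw [← mul_smul, ht, one_smul]
  have zt : ∀ v : V, z • v = -v → z • t • v = t • v := fun v hv => ho _ (conj_minus t hv)
  have key : ∀ x ∈ Gam V z, ∀ x' ∈ Gam V t,
      (∀ m : V, t • m = -m → x' • m = (x * (t * x * t⁻¹)) • m) → ∀ v : V, z • v = -v →
      x' • v = (2 : F)⁻¹ • (v + t • v + x • v - t • x • v) ∧
      x' • t • v = (2 : F)⁻¹ • (v + t • v - x • v + t • x • v) := by
    intro x hx x' hx' H v hv
    have e1 := hx' (v + t • v) (by rw [smul_add, tt, add_comm])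
    have e2 := H (v - t • v) (by rw [smul_sub, tt, neg_sub])
    simp only [hti, mul_smul, smul_sub, tt, hx _ (zt v hv),
      hx _ (zt _ (h.gam_minus (Q.pi.sq h) hx hv))] at e2
    rw [smul_add] at e1
    constructor
    · rw [eq_inv_smul_iff₀ h2, two_smul]
      linear_combination (norm := abel) e1 + e2
    · rw [eq_inv_smul_iff₀ h2, two_smul]
      linear_combination (norm := abel) e1 - e2
  have m1 := Q.mi h hm
  have m2 := Q.mj h hm
  have m3 := Q.mi h m2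
  have a0 := key i (Q.le Q.hi) i' hi hi' _ hm
  have a1 := key i (Q.le Q.hi) i' hi hi' _ m1
  have a2 := key i (Q.le Q.hi) i' hi hi' _ m2
  have a3 := key i (Q.le Q.hi) i' hi hi' _ m3
  have b0 := key j (Q.le Q.hj) j' hj hj' _ hm
  have b1 := key j (Q.le Q.hj) j' hj hj' _ m1
  have b2 := key j (Q.le Q.hj) j' hj hj' _ m2
  have b3 := key j (Q.le Q.hj) j' hj hj' _ m3
  have c1 := Q.iiv hm
  have c2 := Q.iiv m2
  have c3 := Q.jiv h hm
  have c4 := Q.jjv hm
  have c5 := Q.jiv h m2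
  rw [c4, smul_neg, neg_neg] at c5
  have d0 := zt _ hm
  have d1 := zt _ m1
  have d2 := zt _ m2
  have d3 := zt _ m3
  have e0 := Q.le Q.hi _ d0
  have e1 := Q.le Q.hi _ d1
  have e2 := Q.le Q.hi _ d2
  have e3 := Q.le Q.hi _ d3
  simp only [mul_smul]
  generalize hw3 : i • j • m = w3 at *
  generalize hw2 : j • m = w2 at *
  generalize hw1 : i • m = w1 at *
  simp only [smul_neg, c1, c2, c3, c4, c5, hw3] at a1 a2 a3 b1 b2 b3
  simp only [smul_add, smul_sub, smul_neg, sm, a0.1, a0.2, a1.1, a1.2, a2.1, a2.2, a3.1, a3.2,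
    b0.1, b0.2, b1.1, b1.2, b2.1, b2.2, b3.1, b3.2, c1, c2, c3, c4, c5, d0, d1, d2, d3, e0, e1, e2,
    e3, hm, m1, m2, m3, hw1, hw2, hw3]
  generalize t • m = n0
  generalize t • w1 = n1
  generalize t • w2 = n2
  generalize t • w3 = n3
  constructor <;> match_scalars <;> field_simp <;> ring

end CF.PnSp
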