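import Cfsg.Agent.Known.Pn.Bad

/-!
A product of order four produces an element with nontrivial transfer.
-/

set_option autoImplicit false
set_option linter.unusedSectionVars false

namespace CF.PnSp

open CF.Loc Subgroup

variable {G F V : Type*} [Group G] [Field F] [AddCommGroup V] [Module F V] [DistribMulAction G V]
  [SMulCommClass G F V] {B : LinearMap.BilinForm F V} {ι : Type} [Fintype ι] [DecidableEq ι]

theorem QD.conj_omega (h : Sy G B) {z i j y : G} {T : Subgroup G} (Q : QD B z T i j)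
    (hy : y * z = z * y)
    (H : ∀ m : V, z • m = -m → y • m = (2 : F)⁻¹ • (m + i • m + j • m + i • j • m)) :
    y * i * y⁻¹ = j ∧ y * j * y⁻¹ = i * j := by
  have hz := Q.pi.sq h
  have key : ∀ x ∈ Gam V z, ∀ x' ∈ Gam V z, (∀ m : V, z • m = -m → y • x • m = x' • y • m) →
      y * x * y⁻¹ = x' := by
    intro x hx x' hx' e
    refine h.gam_ext hz ?_ hx' fun m hm => ?_
    · have := conj_mem_Gam y hx
      rwa [hy, mul_inv_cancel_right] at this
    · rw [mul_smul, mul_smul, e _ (minus_of_comm (Commute.inv_left hy).eq hm), smul_inv_smul]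
  constructor
  · refine key _ (Q.le Q.hi) _ (Q.le Q.hj) fun m hm => ?_
    rw [H _ (Q.mi h hm), H m hm]
    simp only [sm, smul_add, smul_neg, Q.iiv hm, Q.jiv h hm, Q.jjv hm, Q.iiv (Q.mj h hm),
      Q.jiv h (Q.mj h hm), neg_neg]
    abel
  · refine key _ (Q.le Q.hj) _ (Q.le (mul_mem Q.hi Q.hj)) fun m hm => ?_
    rw [H _ (Q.mj h hm), H m hm]
    simp only [mul_smul, sm, smul_add, smul_neg, Q.iiv hm, Q.jiv h hm, Q.jjv hm, Q.iiv (Q.mj h hm),
      Q.jiv h (Q.mj h hm), neg_neg]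
    abel

theorem QD.not_conj (h : Sy G B) {z i j r : G} {T : Subgroup G} (Q : QD B z T i j) (hr : r ∈ T)
    (h1 : r * i * r⁻¹ = j) (h2 : r * j * r⁻¹ = i * j) : False := by
  have hz := Q.pi.sq h
  have h3 : r * (i * j) * r⁻¹ = i := by
    have e := h.gam_comm hz (Q.le Q.hi)
    calc _ = (r * i * r⁻¹) * (r * j * r⁻¹) := by group
      _ = (z * z) * j * i * j := by rw [h1, h2, hz]; group
      _ = z * (z * (j * i)) * j := by group
      _ = i := by rw [← Q.ij, mul_assoc, mul_assoc, Q.jj, e, ← mul_assoc, hz, one_mul]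
  have h4 : Commute (r ^ 3) i := by
    rw [Commute, SemiconjBy, ← mul_inv_eq_iff_eq_mul]
    calc r ^ 3 * i * (r ^ 3)⁻¹ = r * (r * (r * i * r⁻¹) * r⁻¹) * r⁻¹ := by
          simp only [pow_succ, pow_zero, one_mul, mul_inv_rev, mul_assoc]
      _ = i := by rw [h1, h2, h3]
  obtain ⟨k, hk⟩ := orderOf_eq_pow_of_mem Q.pg hr
  obtain ⟨n, hn⟩ := exists_pow_eq_self_of_coprime (x := r) (n := 3)
    (by rw [hk]; exact Nat.Coprime.pow_right _ (by norm_num))
  have h5 : Commute r i := hn ▸ h4.pow_left n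
  rw [h5.eq, mul_inv_cancel_right] at h1
  have h6 := Q.ij
  rw [← h1, right_eq_mul] at h6
  exact Q.pi.ne_one h h6

namespace Fr

variable (h : Sy G B) {z : ι → G} (fr : Fr B z) [Finite G] [Finite F] (fu : Full G B)
  {S : Subgroup G} (hS : IsSyl 2 S (St z)) {χ : ι → G → ZMod 3} {τ : G → ZMod 3}
  (ch : Chi V z S χ τ)
include h fr fu hS ch

theorem mem_NN {y : G} (hy : y ∈ Bs z) (H : ∀ a, y ∈ 𝐍(S ⊓ Gam V (z a))) : y ∈ NN z S := by
  refine ⟨Bs_le_St z hy, mem_normalizer_of_conj_mem fun x hx => mem_inf.2 ⟨fr.mem_of_agree h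
    fun a => ?_, mul_mem (mul_mem hy hx.2) (inv_mem hy)⟩⟩
  obtain ⟨r, hr, e⟩ := fr.ag_of_mem h fu hS ch hx.1 hx.2 a
  refine ⟨_, conj_mem_of_mem_normalizer (H a) hr, fun m hm => ?_⟩
  simp only [mul_smul]
  rw [e _ (minus_of_comm (Bs_comm (inv_mem hy) a) hm)]

theorem bad1 {K : Subgroup G} (hK : S ≤ K) {a b : ι} (hab : a ≠ b) {i j t : G}
    (Q : QD B (z a) (S ⊓ Gam V (z a)) i j) (hcl : S ⊓ Gam V (z a) = closure {i, j}) (ht : t ∈ S)
    (htp : PI B t) (e : t * z a * t⁻¹ = z b) {T : Subgroup G} (hT : IsSyl 2 T (Gam V t))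
    (hTK : T ≤ K) : ∃ y ∈ K, y ∈ NN z S ∧ τ y ≠ 0 := by
  have ho := fr.orth a b hab
  have ho' : Orth V (z a) (t * z a * t⁻¹) := e ▸ ho
  have hz := fr.sq h a
  have hz' := fr.sq h b
  have ht2 := htp.sq h
  have hti := htp.inv_eq h
  have hRK : S ⊓ Gam V (z a) ≤ K := inf_le_left.trans hK
  obtain ⟨i', hi, hi'⟩ := h.match fu Q.pi htp ho' (hRK Q.zmem) (hK ht) (fr.syl_Gam h hS a) hRK hT
    hTK Q.hi
  obtain ⟨j', hj, hj'⟩ := h.match fu Q.pi htp ho' (hRK Q.zmem) (hK ht) (fr.syl_Gam h hS a) hRK hT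
    hTK Q.hj
  have hy := fun m hm => Q.omega h ht2 ho' hi.2 hj.2 hi' hj' (m := m) hm
  have hL := h.gam_le_left hz hz' ho
  have hc := h.mul_sq hz hz' ho
  have hLt : Gam V t ≤ Gam V (z a * z b) := fun x hx v hv => hx v (by
    rw [h.plus_mul_iff hz hz' ho] at hv
    have h1 : z a • t • v = t • v := by
      have := hv.2
      rwa [← e, hti, mul_smul, mul_smul, smul_eq_iff_eq_inv_smul, hti] at this
    have h2 : z b • t • v = t • v := e ▸ conj_plus t hv.1
    obtain ⟨p, m, hp, hm, rfl⟩ := h.dec ht2 v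
    have h3 : ∀ c : G, c • (p + m) = p + m → c • t • (p + m) = t • (p + m) → c • m = m := by
      intro c c1 c2
      simp only [smul_add, hp, hm, smul_neg] at c1 c2
      rw [← sub_eq_zero]
      apply h.two_smul_eq_zero
      rw [two_smul]
      linear_combination (norm := abel) c1 - c2
    have h4 : m = 0 := by
      by_contra h0
      obtain ⟨u, hu, hu0⟩ := Q.pi.exists_ne h
      obtain ⟨f, H⟩ := Q.pi.exists_hp h hu hu0
      have t1 : ∀ x : V, z a • x = -x → t • (x - t • x) = -(x - t • x) := fun x _ => by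
        rw [smul_sub, ← mul_smul, ht2, one_smul, neg_sub]
      have t2 : ∀ x : V, z a • x = -x → z b • t • x = -(t • x) := fun x hx => e ▸ conj_minus t hx
      have H' := htp.hp h (t1 u hu) (v := (2 : F)⁻¹ • (f - t • f))
        (by rw [sm, t1 f (H.minus_f h), smul_neg]) (by
          simp only [map_smul, map_sub, LinearMap.sub_apply, h.inv, H.1, smul_eq_mul,
            h.mp hu (ho _ (t2 f (H.minus_f h))), h.pm (ho _ (t2 u hu)) (H.minus_f h)]
          field_simp [h.two]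
          norm_num)
      have t3 : ∀ x : V, z a • x = -x → B m (x - t • x) = 0 := fun x hx => by
        rw [map_sub, h.pm (h3 _ hv.1 h1) hx, h.pm (h3 _ hv.2 h2) (t2 x hx), sub_zero]
      exact h0 (h.eq_zero_of_mp hm ((H'.plus_iff h).2 ⟨t3 u hu, by
        rw [map_smul, t3 f (H.minus_f h), smul_zero]⟩))
    rw [h4, add_zero, hp])
  set y := i * z a * j' * i * i' * j' * i
  have hi0 := Q.le Q.hi
  have hyL : y ∈ Gam V (z a * z b) := mul_mem (mul_mem (mul_mem (mul_mem (mul_mem (mul_mem (hL hi0)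
    (hL (self_mem_Gam _))) (hLt hj.2)) (hL hi0)) (hLt hi.2)) (hLt hj.2)) (hL hi0)
  have hiK := hRK Q.hi
  have hyK : y ∈ K := K.mul_mem (K.mul_mem (K.mul_mem (K.mul_mem (K.mul_mem (K.mul_mem hiK
    (hRK Q.zmem)) hj.1) hiK) hi.1) hj.1) hiK
  clear_value y
  have hya : y * z a = z a * y := by
    refine mul_inv_eq_iff_eq_mul.1 ((Q.pi.conj h y).eq_of_le h Q.pi fun v hv => ?_)
    have h1 := conj_minus y⁻¹ hv
    simp only [mul_smul, inv_inv, inv_smul_smul] at h1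
    rw [← smul_inv_smul y v, (hy _ h1).1]
    simp only [sm, smul_add, h1, Q.mi h h1, Q.mj h h1, Q.mi h (Q.mj h h1), smul_neg]
    abel
  have hyt : y * t = t * y := by
    refine h.gam_ext2 hz hz' ho (mul_mem hyL (hLt (self_mem_Gam t)))
      (mul_mem (hLt (self_mem_Gam t)) hyL) (fun m hm => ?_) fun m hm => ?_
    · rw [mul_smul, mul_smul, (hy m hm).1, (hy m hm).2]
    · have h1 := conj_minus t⁻¹ (e ▸ hm)
      simp only [mul_smul, inv_inv, inv_smul_smul] at h1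
      rw [← smul_inv_smul t m, mul_smul, mul_smul, ← mul_smul t t, ht2, one_smul, (hy _ h1).1,
        (hy _ h1).2, ← mul_smul t t, ht2, one_smul]
  have hoc : ∀ d, d ≠ a → d ≠ b → Orth V (z a * z b) (z d) := fun d h1 h2 v hv => by
    rw [mul_smul, fr.orth b d h2.symm v hv, fr.orth a d h1.symm v hv]
  have hyB : y ∈ Bs z := by
    rintro _ ⟨d, rfl⟩
    by_cases h1 : d = a
    · rw [h1, hya]
    by_cases h2 : d = b
    · rw [h2, ← e]
      exact ((Commute.mul_right (Commute.mul_right hyt hya) (Commute.inv_right hyt)).eq).symm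
    · exact (h.gam_commute hc (fr.sq h d) (hoc d h1 h2) hyL (self_mem_Gam _)).symm
  obtain ⟨c1, c2⟩ := Q.conj_omega h hya fun m hm => (hy m hm).1
  have hya' : y ∈ 𝐍(S ⊓ Gam V (z a)) := by
    refine mem_normalizer_of_cj_le ?_
    nth_rewrite 1 [hcl]
    rw [MonoidHom.map_closure, closure_le]
    rintro _ ⟨x, hx, rfl⟩
    change y * x * y⁻¹ ∈ S ⊓ Gam V (z a)
    rcases hx with hx | hx <;> rw [hx]
    · exact c1 ▸ Q.hj
    · exact c2 ▸ mul_mem Q.hi Q.hj
  have htN := fr.le_NN h fu hS ht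
  have hyN : y ∈ NN z S := fr.mem_NN h fu hS ch hyB fun d => by
    by_cases h1 : d = a
    · exact h1 ▸ hya'
    by_cases h2 : d = b
    · rw [h2, ← fr.cj_R h fu hS htN e, ← cj_normalizer, mem_cj, mul_assoc, hyt,
        inv_mul_cancel_left]
      exact hya'
    · exact centralizer_le_normalizer _ fun r hr =>
        (h.gam_commute hc (fr.sq h d) (hoc d h1 h2) hyL hr.2).symm
  refine ⟨y, hyK, hyN, ?_⟩
  have k1 : χ b y = χ a y := by
    rw [← ch.conj t htN y ⟨hyN, hyB⟩ a b e, ← hyt, mul_inv_cancel_right]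
  rw [ch.sum y hyB, Finset.sum_eq_add_of_mem a b (Finset.mem_univ _) (Finset.mem_univ _) hab
    fun d _ hd => (ch.ag d y ⟨hyN, hyB⟩).2 ⟨1, one_mem _, fun m hm => by
      rw [one_smul, hyL m (hoc d hd.1 hd.2 m hm)]⟩, k1, ← two_mul]
  refine mul_ne_zero (by decide) fun k2 => ?_
  obtain ⟨r, hr, H⟩ := (ch.ag a y ⟨hyN, hyB⟩).1 k2
  obtain ⟨c3, c4⟩ := Q.conj_omega h (h.gam_comm hz hr.2) fun m hm => (H m hm).symm.trans (hy m hm).1
  exact Q.not_conj h hr c3 c4

theorem bad2 {k : ℕ} (hk : Fintype.card ι = 2 ^ k) {K : Subgroup G} (hK : S ≤ K) {o : ι} {i j : G}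
    (Q : QD B (z o) (S ⊓ Gam V (z o)) i j) (hcl : S ⊓ Gam V (z o) = closure {i, j}) {g : G}
    (hg : g ∈ K) (h4 : (z o * (g * z o * g⁻¹)) ^ 4 = 1) (h2 : (z o * (g * z o * g⁻¹)) ^ 2 ≠ 1) :
    ∃ y ∈ K, y ∈ NN z S ∧ τ y ≠ 0 := by
  have hw := Q.pi.conj h g
  have hz := fr.sq h o
  have hw2 := hw.sq h
  have hwi := hw.inv_eq h
  have hRK : S ⊓ Gam V (z o) ≤ K := inf_le_left.trans hK
  have hwK : g * z o * g⁻¹ ∈ K := mul_mem (mul_mem hg (hRK Q.zmem)) (inv_mem hg)
  have hT : IsSyl 2 (cj[g] (S ⊓ Gam V (z o))) (Gam V (g * z o * g⁻¹)) :=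
    cj_Gam (V := V) g (z o) ▸ (fr.syl_Gam h hS o).cj g
  have hTK := cj_le_of_mem hg hRK
  generalize cj[g] (S ⊓ Gam V (z o)) = T at hT hTK
  generalize g * z o * g⁻¹ = w at *
  have hne : w * z o * w⁻¹ ≠ z o := fun e => h2 (by
    rw [mul_inv_eq_iff_eq_mul] at e
    rw [_root_.sq, mul_assoc, ← mul_assoc w, e, mul_assoc _ w w, hw2, mul_one, hz])
  have ho : Orth V (z o) (w * z o * w⁻¹) := by
    refine (Q.pi.eq_or_orth h (Q.pi.conj h w) ?_).resolve_left hne.symm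
    rw [hwi]
    calc z o * (w * z o * w) = z o * (w * z o * w) * (z o * (w * (z o * z o) * w) * z o) := by
          rw [hz, mul_one, hw2, mul_one, hz, mul_one]
      _ = (z o * w) ^ 4 * (w⁻¹ * z o * w * z o) := by simp only [pow_succ]; group
      _ = _ := by rw [h4, hwi, one_mul]
  have Q' := Q.conj h w
  have hE : IsPGroup 2 ((S ⊓ Gam V (z o)) ⊔ cj[w] (S ⊓ Gam V (z o)) : Subgroup G) :=
    Q.pg.to_sup_of_normal_right' Q'.pg fun t ht => centralizer_le_normalizer _ fun s hs =>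
      (h.gam_commute hz (Q'.pi.sq h) ho (Q.le ht) (Q'.le hs)).symm
  have hE' := hE.to_sup_of_normal_left' (isPGroup_zpowers (x := w) (k := 1) (by
    rw [pow_one, _root_.sq, hw2])) (zpowers_le.2 (by
      rw [← cj_eq_self_iff, cj_sup, ← cj_mul, hw2, cj_one, sup_comm]))
  obtain ⟨l, hl, hle⟩ := ((fr.syl_top h fu hS).mono hK le_top).exists_cj_le hE'
    (sup_le (sup_le hRK (cj_le_of_mem hwK hRK)) (zpowers_le.2 hwK))
  rw [cj_le_iff_forall] at hle
  obtain ⟨a, ha⟩ := fr.typeX h (hS.le (hle i (mem_sup_left (mem_sup_left Q.hi)))) (Q.pi.conj h l)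
    (conj_mem_Gam l (Q.le Q.hi)) (by rw [← Q.ii]; group)
  have ht := hle w (mem_sup_right (mem_zpowers w))
  obtain ⟨σ, hσ⟩ := hS.le ht
  obtain ⟨s, hs, e⟩ := fr.trans h fu hS hk o a
  have Qs := Q.conj h s
  rw [e, fr.cj_R h fu hS (fr.le_NN h fu hS hs) e] at Qs
  refine fr.bad1 h fu hS ch hK (b := σ a) (fun e' => hne ?_) Qs ?_ ht (hw.conj h l) (hσ a)
    (cj_Gam (V := V) l w ▸ hT.cj l) (cj_le_of_mem hl hTK)
  · have := hσ a
    rw [← e', ← ha] at this
    calc _ = l⁻¹ * (l * w * l⁻¹ * (l * z o * l⁻¹) * (l * w * l⁻¹)⁻¹) * l := by group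
      _ = _ := by rw [this]; group
  · rw [← fr.cj_R h fu hS (fr.le_NN h fu hS hs) e, hcl, MonoidHom.map_closure, Set.image_pair]
    rfl

end Fr

end CF.PnSp
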