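import Cfsg.Agent.Known.Pn.Plane
import Cfsg.Agent.Classical.SymSyl
import Cfsg.Agent.Perm.Basic

/-!
Orthogonal frames of planes and Sylow `2`-subgroups.
-/

set_option autoImplicit false
set_option linter.unusedSectionVars false

namespace CF.PnSp

open CF.Loc Subgroup

variable {G F V : Type*} [Group G] [Field F] [AddCommGroup V] [Module F V] [DistribMulAction G V]
  [SMulCommClass G F V] {B : LinearMap.BilinForm F V} {ι : Type} [Fintype ι] [DecidableEq ι]

theorem cj_Gam (g c : G) : cj[g] (Gam V c) = Gam V (g * c * g⁻¹) := by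
  refine le_antisymm (cj_le_iff_forall.2 fun x hx => conj_mem_Gam g hx) fun x hx => mem_cj.2 ?_
  have := conj_mem_Gam g⁻¹ hx
  simpa [mul_assoc] using this

/-- An orthogonal decomposition into planes. -/
structure Fr (B : LinearMap.BilinForm F V) (z : ι → G) : Prop where
  pi : ∀ a, PI B (z a)
  orth : ∀ a b, a ≠ b → Orth V (z a) (z b)
  span : ∀ v : V, (∀ a, z a • v = v) → v = 0

/-- The stabilizer of the frame. -/
def St (z : ι → G) : Subgroup G where
  carrier := {g | ∃ σ : Equiv.Perm ι, ∀ a, g * z a * g⁻¹ = z (σ a)}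
  one_mem' := ⟨1, fun a => by simp⟩
  mul_mem' := by
    rintro g g' ⟨σ, h⟩ ⟨σ', h'⟩
    exact ⟨σ * σ', fun a => by rw [Equiv.Perm.mul_apply, ← h, ← h']; group⟩
  inv_mem' := by
    rintro g ⟨σ, h⟩
    refine ⟨σ⁻¹, fun a => ?_⟩
    have := h (σ⁻¹ a)
    rw [Classical.pm_apply_inv] at this
    rw [← this]; group

/-- The base group. -/
def Bs (z : ι → G) : Subgroup G := centralizer (Set.range z)

theorem mem_Bs {z : ι → G} {g : G} : g ∈ Bs z ↔ ∀ a, g * z a * g⁻¹ = z a :=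
  ⟨fun h a => mul_inv_eq_iff_eq_mul.2 (h _ ⟨a, rfl⟩).symm, by
    rintro h _ ⟨a, rfl⟩
    exact (mul_inv_eq_iff_eq_mul.1 (h a)).symm⟩

theorem Bs_comm {z : ι → G} {g : G} (h : g ∈ Bs z) (a : ι) : g * z a = z a * g :=
  (h _ ⟨a, rfl⟩).symm

theorem Bs_le_St (z : ι → G) : Bs z ≤ St z := fun _ h => ⟨1, mem_Bs.1 h⟩

theorem St_le_norm_Bs (z : ι → G) : St z ≤ 𝐍(Bs z) := by
  refine le_normalizer_iff_cj.2 fun g hg => cj_le_iff_forall.2 fun x hx => mem_Bs.2 fun a => ?_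
  obtain ⟨σ, h⟩ := (St z).inv_mem hg
  calc _ = g * (x * (g⁻¹ * z a * g⁻¹⁻¹) * x⁻¹) * g⁻¹ := by group
    _ = _ := by rw [h, mem_Bs.1 hx, ← h]; group

theorem Bs_le_norm_Gam (z : ι → G) (a : ι) : Bs z ≤ 𝐍(Gam V (z a)) := fun g hg => by
  rw [← cj_eq_self_iff, cj_Gam, mem_Bs.1 hg]

namespace Fr

variable (h : Sy G B) {z : ι → G} (fr : Fr B z)
include h fr

theorem inj : Function.Injective z := fun a b e => by
  by_contra hne
  have := fr.orth a b hne
  rw [e] at this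
  exact (fr.pi b).not_orth_self h this

theorem sq (a : ι) : z a * z a = 1 := (fr.pi a).sq h

theorem mem_St {g : G} (H : ∀ a, ∃ b, g * z a * g⁻¹ = z b) : g ∈ St z := by
  choose σ hσ using H
  refine ⟨Equiv.ofBijective σ (Finite.injective_iff_bijective.1 fun a b e => fr.inj h ?_), hσ⟩
  have := (hσ a).trans ((congrArg z e).trans (hσ b).symm)
  simpa using this

theorem Gam_le_Bs (a : ι) : Gam V (z a) ≤ Bs z := by
  rintro x hx _ ⟨b, rfl⟩
  by_cases e : a = b
  · exact (h.gam_comm (fr.sq h b) (e ▸ hx)).symm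
  · exact (h.gam_commute (fr.sq h a) (fr.sq h b) (fr.orth a b e) hx (self_mem_Gam _)).symm

theorem eq_of_comm {w : G} (hw : PI B w) (H : ∀ a, z a * w = w * z a) : ∃ a, w = z a := by
  by_contra! hc
  obtain ⟨v, hv, h0⟩ := hw.exists_ne h
  exact h0 (fr.span v fun a => (((fr.pi a).eq_or_orth h hw (H a)).resolve_left (hc a).symm) v hv)

theorem ext {x y : G} (H : ∀ a (m : V), z a • m = -m → x • m = y • m) : x = y := by
  refine (inv_mul_eq_one.1 (h.faith (y⁻¹ * x) fun v => ?_)).symm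
  rw [← sub_eq_zero]
  refine fr.span _ fun a => h.plus_of_orth (fr.sq h a) fun m hm => ?_
  rw [map_sub, LinearMap.sub_apply, h.inv', mul_inv_rev, inv_inv, mul_smul, ← H a m hm,
    inv_smul_smul, sub_self]

theorem mem_of_agree {H : Subgroup G} {x : G}
    (hx : ∀ a, ∃ r ∈ H ⊓ Gam V (z a), ∀ m : V, z a • m = -m → x • m = r • m) : x ∈ H := by
  choose r hr hr' using hx
  have key : ∀ I : Finset ι, ∃ y ∈ H, (∀ a ∈ I, ∀ m : V, z a • m = -m → y • m = x • m) ∧
      ∀ a ∉ I, ∀ m : V, z a • m = -m → y • m = m := by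
    intro I
    induction I using Finset.induction_on with
    | empty => exact ⟨1, one_mem _, by simp, fun a _ m _ => one_smul G m⟩
    | insert b I hb ih =>
      obtain ⟨y, hy, h1, h2⟩ := ih
      refine ⟨y * r b, mul_mem hy (hr b).1, fun a ha m hm => ?_, fun a ha m hm => ?_⟩
      · rcases Finset.mem_insert.1 ha with rfl | ha
        · rw [mul_smul, h2 a hb _ (h.gam_minus (fr.sq h a) (hr a).2 hm), hr' a m hm]
        · rw [mul_smul, (hr b).2 m (fr.orth b a (fun e => hb (e ▸ ha)) m hm), h1 a ha m hm]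
      · rw [Finset.mem_insert, not_or] at ha
        rw [mul_smul, (hr b).2 m (fr.orth b a (Ne.symm ha.1) m hm), h2 a ha.2 m hm]
  obtain ⟨y, hy, h1, -⟩ := key Finset.univ
  exact fr.ext h (fun a m hm => h1 a (Finset.mem_univ a) m hm) ▸ hy

theorem typeX {x w : G} (hx : x ∈ St z) (hw : PI B w) (h1 : x ∈ Gam V w) (h2 : x * x = w) :
    ∃ a, w = z a := by
  obtain ⟨σ, hσ⟩ := hx
  by_cases h3 : ∀ a, σ a = a
  · refine fr.eq_of_comm h hw fun a => ?_
    have := hσ a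
    rw [h3, mul_inv_eq_iff_eq_mul] at this
    rw [← h2, ← mul_assoc, ← this, mul_assoc, ← this, mul_assoc]
  obtain ⟨a, ha⟩ := not_forall.1 h3
  have hm : ∀ b (v : V), z b • v = -v → z (σ b) • x • v = -(x • v) := fun b v hv =>
    hσ b ▸ conj_minus x hv
  have hq : ∀ v : V, x • x • x • v - x • x • v + x • v - v = 0 := fun v => by
    have := h.quartic (hw.sq h) h1 h2 v
    rwa [← h2, mul_smul, mul_smul] at this
  have h4 : ∀ b, σ (σ b) = σ a → σ b = a := fun b e => σ.injective e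
  by_cases h5 : σ (σ a) = a
  · refine ⟨a, ((fr.pi a).eq_of_le h hw fun v hv => ?_).symm⟩
    have e1 := hm _ _ hv
    have e2 := hm _ _ e1
    have e3 := hm _ _ e2
    rw [h5] at e2 e3
    have e4 := congrArg (z a • ·) (hq v)
    simp only [smul_sub, smul_add, smul_zero, hv, e2, fr.orth a _ (Ne.symm ha) _ e1,
      fr.orth a _ (Ne.symm ha) _ e3] at e4
    rw [← h2, mul_smul, eq_neg_iff_add_eq_zero]
    apply h.two_smul_eq_zero
    rw [two_smul]
    linear_combination (norm := abel) e4 - hq v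
  · exfalso
    obtain ⟨v, hv, h0⟩ := (fr.pi a).exists_ne h
    have e1 := hm _ _ hv
    have e2 := hm _ _ e1
    have e3 := hm _ _ e2
    have e4 := congrArg (z (σ a) • ·) (hq v)
    simp only [smul_sub, smul_add, smul_zero, e1, fr.orth _ a ha _ hv,
      fr.orth (σ a) _ (fun e => ha (h4 _ e.symm)) _ e2,
      fr.orth (σ a) _ (fun e => h5 (h4 _ e.symm)) _ e3] at e4
    refine h0 ((smul_eq_zero_iff_eq x).1 (h.two_smul_eq_zero ?_))
    rw [two_smul]
    linear_combination (norm := abel) hq v - e4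

theorem exists_perm (fu : Full G B) : ∃ π : St z →* Equiv.Perm ι, Function.Surjective π ∧
    ∀ (g : St z) a, (g : G) * z a * (g : G)⁻¹ = z (π g a) := by
  choose π hπ using fun g : St z => g.2
  refine ⟨MonoidHom.mk' π fun g g' => Equiv.ext fun a => fr.inj h ?_, fun σ => ?_, hπ⟩
  · rw [Equiv.Perm.mul_apply, ← hπ, ← hπ, ← hπ, coe_mul]
    group
  choose e f H using fr.pi
  let φ : Equiv.Perm ι → V →ₗ[F] V := fun σ =>
    ∑ a, ((B.flip (f a)).smulRight (e (σ a)) - (B.flip (e a)).smulRight (f (σ a)))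
  have hφ : ∀ σ v, φ σ v = ∑ a, (B v (f a) • e (σ a) - B v (e a) • f (σ a)) := fun σ v => by
    simp [φ, LinearMap.sum_apply]
  have o1 : ∀ a b, a ≠ b → B (e a) (e b) = 0 ∧ B (e a) (f b) = 0 := fun a b hab =>
    ((H b).plus_iff h).1 (fr.orth b a hab.symm _ ((H a).minus_e h))
  have o2 : ∀ a b, a ≠ b → B (f a) (e b) = 0 ∧ B (f a) (f b) = 0 := fun a b hab =>
    ((H b).plus_iff h).1 (fr.orth b a hab.symm _ ((H a).minus_f h))
  have p1 : ∀ σ v a, B (φ σ v) (e (σ a)) = B v (e a) := fun σ v a => by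
    rw [hφ, map_sum, LinearMap.sum_apply, Finset.sum_eq_single a (fun b _ hb => by
      simp [o1 _ _ (σ.injective.ne hb), o2 _ _ (σ.injective.ne hb)]) (by simp)]
    simp [h.alt, (H _).fe h]
  have p2 : ∀ σ v a, B (φ σ v) (f (σ a)) = B v (f a) := fun σ v a => by
    rw [hφ, map_sum, LinearMap.sum_apply, Finset.sum_eq_single a (fun b _ hb => by
      simp [o1 _ _ (σ.injective.ne hb), o2 _ _ (σ.injective.ne hb)]) (by simp)]
    simp [h.alt, (H _).1]
  have p3 : ∀ v, φ 1 v = v := fun v => by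
    rw [← sub_eq_zero]
    refine fr.span _ fun a => ((H a).plus_iff h).2 ⟨?_, ?_⟩
    · rw [map_sub, LinearMap.sub_apply, sub_eq_zero]
      exact p1 1 v a
    · rw [map_sub, LinearMap.sub_apply, sub_eq_zero]
      exact p2 1 v a
  obtain ⟨g, hg⟩ := fu (φ σ) fun u v => by
    nth_rewrite 2 [← p3 v]
    rw [hφ σ v, hφ 1 v, map_sum, map_sum]
    refine Finset.sum_congr rfl fun a _ => ?_
    simp only [map_sub, map_smul, p1, p2, Equiv.Perm.one_apply]
  have q1 : ∀ a, g • e a = e (σ a) := fun a => by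
    rw [hg, hφ, Finset.sum_eq_single a (fun b _ hb => by simp [o1 _ _ hb.symm]) (by simp)]
    simp [h.alt, (H _).1]
  have q2 : ∀ a, g • f a = f (σ a) := fun a => by
    rw [hg, hφ, Finset.sum_eq_single a (fun b _ hb => by simp [o2 _ _ hb.symm]) (by simp)]
    simp [h.alt, (H _).fe h]
  have q3 : ∀ a, g * z a * g⁻¹ = z (σ a) := fun a => by
    have := (H a).conj h g
    rw [q1, q2] at this
    exact this.eq h (H _)
  exact ⟨⟨g, σ, q3⟩, Equiv.ext fun a => fr.inj h ((hπ ⟨g, σ, q3⟩ a).symm.trans (q3 a))⟩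

variable [Finite G] {S : Subgroup G}

theorem syl_Bs (hS : IsSyl 2 S (St z)) : IsSyl 2 (S ⊓ Bs z) (Bs z) :=
  hS.inf_of_le_normalizer (Bs_le_St z) (St_le_norm_Bs z)

theorem syl_Gam (hS : IsSyl 2 S (St z)) (a : ι) : IsSyl 2 (S ⊓ Gam V (z a)) (Gam V (z a)) := by
  have := (fr.syl_Bs h hS).inf_of_le_normalizer (fr.Gam_le_Bs h a) (Bs_le_norm_Gam z a)
  rwa [inf_assoc, inf_eq_right.2 (fr.Gam_le_Bs h a)] at this

theorem norm_le_St [Finite F] (fu : Full G B) (hS : IsSyl 2 S (St z)) : 𝐍(S) ≤ St z := by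
  intro g hg
  refine fr.mem_St h fun a => ?_
  obtain ⟨x, hx, e⟩ := h.syl_sq fu (fr.pi a) (fr.syl_Gam h hS a)
  exact fr.typeX h (hS.le (conj_mem_of_mem_normalizer hg hx.1)) ((fr.pi a).conj h g)
    (conj_mem_Gam g hx.2) (by rw [← e]; group)

theorem syl_top [Finite F] (fu : Full G B) (hS : IsSyl 2 S (St z)) : IsSyl 2 S ⊤ :=
  isSyl_of_normalizer (hS.mono (le_inf le_top le_normalizer)
    (inf_le_right.trans (fr.norm_le_St h fu hS)))

theorem exists_sylow_perm (fu : Full G B) (hS : IsSyl 2 S (St z)) :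
    ∃ (π : St z →* Equiv.Perm ι) (T : Sylow 2 (Equiv.Perm ι)),
      (∀ (g : St z) a, (g : G) * z a * (g : G)⁻¹ = z (π g a)) ∧
      (T : Subgroup (Equiv.Perm ι)) = (S.subgroupOf (St z)).map π := by
  obtain ⟨π, h1, h2⟩ := fr.exists_perm h fu
  exact ⟨π, hS.toSylow.mapSurjective h1, h2, rfl⟩

theorem trans (fu : Full G B) (hS : IsSyl 2 S (St z)) {k : ℕ} (hk : Fintype.card ι = 2 ^ k)
    (a b : ι) : ∃ s ∈ S, s * z a * s⁻¹ = z b := by
  obtain ⟨π, T, h1, h2⟩ := fr.exists_sylow_perm h fu hS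
  have := CF.Perm.sylow_isPretransitive (α := ι) (by rw [Nat.card_eq_fintype_card, hk]) T
  obtain ⟨⟨t, ht⟩, e⟩ := this.exists_smul_eq a b
  rw [h2] at ht
  obtain ⟨s, hs, rfl⟩ := ht
  exact ⟨s, hs, by rw [h1]; exact congrArg z e⟩

theorem norm_dec [Finite F] (fu : Full G B) (hS : IsSyl 2 S (St z)) {g : G} (hg : g ∈ 𝐍(S)) :
    ∃ s ∈ S, s⁻¹ * g ∈ Bs z := by
  obtain ⟨π, T, h1, h2⟩ := fr.exists_sylow_perm h fu hS
  have hg' := fr.norm_le_St h fu hS hg
  have : π ⟨g, hg'⟩ ∈ (T : Subgroup (Equiv.Perm ι)) := by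
    refine Classical.normalizer_sylow_two_perm_le T (mem_normalizer_of_conj_mem ?_)
    rw [h2]
    rintro _ ⟨s, hs, rfl⟩
    exact ⟨⟨g, hg'⟩ * s * ⟨g, hg'⟩⁻¹, conj_mem_of_mem_normalizer hg hs, by simp⟩
  rw [h2] at this
  obtain ⟨s, hs, e⟩ := this
  refine ⟨s, hs, mem_Bs.2 fun a => ?_⟩
  calc _ = (s : G)⁻¹ * (g * z a * g⁻¹) * s := by group
    _ = _ := by rw [h1 ⟨g, hg'⟩, ← e, ← h1]; group

end Fr

end CF.PnSp
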