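import Cfsg.Agent.Known.Pn.Bad2

/-!
Overgroups of a Sylow `2`-subgroup of a symplectic group of `2`-power dimension.
-/

set_option autoImplicit false
set_option linter.unusedSectionVars false

namespace CF.PnSp

open CF.Loc Subgroup

variable {G F V : Type*} [Group G] [Field F] [AddCommGroup V] [Module F V] [DistribMulAction G V]
  [SMulCommClass G F V] {B : LinearMap.BilinForm F V} {ι : Type} [Fintype ι] [DecidableEq ι]

theorem Sy.sub (h : Sy G B) (K : Subgroup G) : Sy K B :=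
  ⟨h.two, h.alt, h.nd, fun g => h.inv g, fun g H => Subtype.ext (h.faith g H)⟩

theorem Sy.exists_agree (h : Sy G B) (fu : Full G B) {c x : G} (hc : c * c = 1)
    (hx : x * c = c * x) : ∃ y ∈ Gam V c, (∀ m : V, c • m = -m → x • m = y • m) ∧
      ∀ r ∈ Gam V c, y * r * y⁻¹ = x * r * x⁻¹ := by
  obtain ⟨res, hres⟩ := h.exists_res fu hc
  obtain ⟨h1, h2⟩ := hres ⟨x, mem_centralizer_singleton_iff.2 hx⟩
  refine ⟨_, h1, fun m hm => (h2 m hm).symm, fun r hr => h.gam_ext hc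
    (mul_mem (mul_mem h1 hr) (inv_mem h1)) ?_ fun m hm => ?_⟩
  · have := conj_mem_Gam x hr
    rwa [hx, mul_inv_cancel_right] at this
  · have h3 := minus_of_comm (Commute.inv_left hx).eq hm
    have h4 := h2 _ h3
    rw [smul_inv_smul, smul_eq_iff_eq_inv_smul] at h4
    simp only [mul_smul]
    rw [← h4]
    exact h2 _ (h.gam_minus hc hr h3)

namespace Fr

variable (h : Sy G B) {z : ι → G} (fr : Fr B z) [Finite G] [Finite F] [Finite V]
  [FiniteDimensional F V] (fu : Full G B)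
  {S : Subgroup G} (hS : IsSyl 2 S (St z)) {k : ℕ} (hk : Fintype.card ι = 2 ^ k)
include h fr fu hS hk

theorem le_St {K : Subgroup G} (hK : S ≤ K) {o : ι} {i j : G}
    (Q : QD B (z o) (S ⊓ Gam V (z o)) i j) (nb : ∀ g ∈ K, (z o * (g * z o * g⁻¹)) ^ 4 = 1 →
      (z o * (g * z o * g⁻¹)) ^ 2 = 1) : K ≤ St z := by
  obtain ⟨p, hp⟩ := CharP.exists F
  haveI : Fact p.Prime := ⟨CharP.char_is_prime F p⟩
  have hRK : S ⊓ Gam V (z o) ≤ K := inf_le_left.trans hK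
  have key := (h.sub K).comm_all (p := p) (z := ⟨z o, hRK Q.zmem⟩) (i := ⟨i, hRK Q.hi⟩)
    (j := ⟨j, hRK Q.hj⟩) (T := (S ⊓ Gam V (z o)).subgroupOf K)
    ⟨Q.pi, isPGroup_subgroupOf Q.pg, fun x hx => Q.le hx, Q.hi, Q.hj, Subtype.ext Q.ii,
      Subtype.ext Q.jj, Subtype.ext Q.ij⟩
    (fun g e => Subtype.ext (nb g g.2 (congrArg Subtype.val e))) fun v h0 hv => by
      obtain ⟨a, ha⟩ : ∃ a, z a • v ≠ v := by
        by_contra! hc
        exact h0 (fr.span v hc)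
      obtain ⟨s, hs, e⟩ := fr.trans h fu hS hk o a
      refine ⟨⟨s, hK hs⟩, ?_, ?_⟩
      · change Orth V (z o) (s * z o * s⁻¹)
        rw [e]
        exact fr.orth o a fun e' => ha (e' ▸ hv)
      · change (s * z o * s⁻¹) • v ≠ v
        rwa [e]
  intro y hy
  refine fr.mem_St h fun a => fr.eq_of_comm h ((fr.pi a).conj h y) fun b => ?_
  obtain ⟨s, hs, e⟩ := fr.trans h fu hS hk o a
  obtain ⟨t, ht, e'⟩ := fr.trans h fu hS hk o b
  have : z o * (t⁻¹ * y * s * z o * (t⁻¹ * y * s)⁻¹) = t⁻¹ * y * s * z o * (t⁻¹ * y * s)⁻¹ * z o :=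
    congrArg Subtype.val (key ⟨t⁻¹ * y * s, mul_mem (mul_mem (inv_mem (hK ht)) hy) (hK hs)⟩)
  rw [← e, ← e']
  calc _ = t * (z o * (t⁻¹ * y * s * z o * (t⁻¹ * y * s)⁻¹)) * t⁻¹ := by group
    _ = _ := by rw [this]; group

theorem comm_mem' {g g' : G} (hg : g ∈ 𝐍(S)) (hg' : g' ∈ 𝐍(S)) : g * g' * g⁻¹ * g'⁻¹ ∈ S := by
  obtain ⟨χ, τ, ch⟩ := fr.exists_chi h fu hS hk
  exact fr.comm_mem h fu hS ch hk hg hg'

theorem main {H : Subgroup G} (hH : S ≤ H) {g : G} (hg : g ∈ 𝐍(S)) :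
    g ∈ H ⊔ cj[g] H ∨ g ∈ 𝐍(H) := by
  refine or_iff_not_imp_left.2 fun hgK => ?_
  obtain ⟨χ, τ, ch⟩ := fr.exists_chi h fu hS hk
  set K := H ⊔ cj[g] H
  have hK : S ≤ K := hH.trans le_sup_left
  have hτ : ∀ y ∈ K, y ∈ NN z S → τ y = 0 := fun y hy hy' => by
    by_contra e
    exact hgK (fr.norm_le h fu hS ch hk hK hy hy' e hg)
  obtain ⟨s, hs, hB⟩ := fr.norm_dec h fu hS hg
  have h0 : s⁻¹ * g ∈ 𝐍(S) := mul_mem (le_normalizer (inv_mem hs)) hg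
  have h1 : s⁻¹ * g ∉ S := fun e => hgK (hK (by simpa using mul_mem hs e))
  have h2 : cj[s⁻¹ * g] H ≤ K := by
    rw [cj_mul]
    exact cj_le_of_mem (inv_mem (hK hs)) le_sup_right
  suffices s⁻¹ * g ∈ 𝐍(H) by simpa using mul_mem (le_normalizer (hH hs)) this
  generalize s⁻¹ * g = u at hB h0 h1 h2
  have hu : u ∈ NN z S ⊓ Bs z := ⟨fr.norm_le_NN h fu hS h0, hB⟩
  choose w hw hw1 hw2 using fun a => h.exists_agree fu (fr.sq h a) (Bs_comm hB a)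
  have hw3 : ∀ a (X : Subgroup G), X ≤ Gam V (z a) → cj[w a] X = cj[u] X := fun a X hX =>
    le_antisymm (cj_le_iff_forall.2 fun x hx => hw2 a x (hX hx) ▸ conj_mem_cj u hx)
      (cj_le_iff_forall.2 fun x hx => hw2 a x (hX hx) ▸ conj_mem_cj (w a) hx)
  have hw4 : ∀ a, w a ∈ 𝐍(S ⊓ Gam V (z a)) := fun a => by
    rw [← cj_eq_self_iff, hw3 a _ inf_le_right, fr.cj_R h fu hS hu.1 (mem_Bs.1 hB a)]
  obtain ⟨o⟩ : Nonempty ι := Fintype.card_pos_iff.1 (by rw [hk]; positivity)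
  obtain ⟨-, -, i, j, Q, hcl⟩ := h.syl_norm fu (fr.pi o) (fr.syl_Gam h hS o) fun e =>
    h1 (fr.mem_of_chi h fu hS ch hk h0 hB ((ch.ag o u hu).2 ⟨w o, e ⟨hw o, hw4 o⟩, hw1 o⟩))
  have hSt : K ≤ St z := fr.le_St h fu hS hk hK Q fun y hy e => by
    by_contra e'
    obtain ⟨y, a1, a2, a3⟩ := fr.bad2 h fu hS ch hk hK Q hcl hy e e'
    exact a3 (hτ y a1 a2)
  have hN : ∀ a, ∀ y ∈ K, y ∈ Gam V (z a) → y ∈ 𝐍(S ⊓ Gam V (z a)) → y ∈ S := by
    intro a y a1 a2 a3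
    have a4 := fr.Gam_le_Bs h a a2
    have a5 : y ∈ NN z S := fr.mem_NN h fu hS ch a4 fun d => by
      by_cases e : d = a
      · exact e ▸ a3
      · exact centralizer_le_normalizer _ fun r hr =>
          h.gam_commute (fr.sq h d) (fr.sq h a) (fr.orth d a e) hr.2 a2
    have a6 := hτ y a1 a5
    rw [ch.sum y a4, Finset.sum_eq_single a (fun d _ e => (ch.ag d y ⟨a5, a4⟩).2
      ⟨1, one_mem _, fun m hm => by rw [one_smul, a2 m (fr.orth a d e.symm m hm)]⟩) (by simp)] at a6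
    obtain ⟨r, hr, e⟩ := (ch.ag a y ⟨a5, a4⟩).1 a6
    exact h.gam_ext (fr.sq h a) a2 hr.2 e ▸ hr.1
  have hHa : ∀ a, u ∈ 𝐍(H ⊓ Gam V (z a)) := by
    intro a
    have a1 : S ⊓ Gam V (z a) ≤ H ⊓ Gam V (z a) := inf_le_inf_right _ hH
    obtain ⟨x, hx, e⟩ := h.syl_pron fu (fr.pi a) (fr.syl_Gam h hS a) a1 inf_le_right (hw a)
    have a2 : x ∈ K ⊓ Gam V (z a) := (sup_le (inf_le_inf_right _ le_sup_left) (le_inf
      ((hw3 a _ inf_le_right).le.trans ((cj_mono u inf_le_left).trans h2))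
      (cj_le_of_mem (hw a) inf_le_right)) : _ ≤ K ⊓ Gam V (z a)) hx
    obtain ⟨n, hn, m, hm, e'⟩ := ((fr.syl_Gam h hS a).mono a1 inf_le_right).frattini
      (g := x⁻¹ * w a) (by rw [← cj_eq_self_iff, cj_mul, e, cj_inv_cj])
    have a3 : x * n ∈ S := hN a _ (K.mul_mem a2.1 (mem_sup_left hn.1)) ((Gam V _).mul_mem a2.2 hn.2)
      (by
        rw [show x * n = w a * m⁻¹ by rw [eq_mul_inv_iff_mul_eq, mul_assoc, ← e']; group]
        exact mul_mem (hw4 a) (inv_mem hm))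
    have a4 : x ∈ H ⊓ Gam V (z a) := ⟨by simpa using H.mul_mem (hH a3) (H.inv_mem hn.1), a2.2⟩
    rw [← cj_eq_self_iff, ← hw3 a _ inf_le_right, e, cj_eq_self_of_mem a4]
  let D := ⨆ a, H ⊓ Gam V (z a)
  have hD1 : D ≤ H := iSup_le fun a => inf_le_left
  have hD2 : IsSyl 2 (S ⊓ Bs z) D := (fr.syl_Bs h hS).mono (fun x hx => fr.mem_of_agree h fun a => by
    obtain ⟨r, hr, e⟩ := fr.ag_of_mem h fu hS ch hx.1 hx.2 a
    exact ⟨r, ⟨mem_iSup_of_mem a ⟨hH hr.1, hr.2⟩, hr.2⟩, e⟩)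
    (iSup_le fun a => inf_le_right.trans (fr.Gam_le_Bs h a))
  have hD3 : u ∈ 𝐍(D) := le_normalizer_iSup (L := zpowers u) (fun a => zpowers_le.2 (hHa a))
    (mem_zpowers u)
  refine mem_normalizer_of_conj_mem fun y hy => ?_
  obtain ⟨n, hn, m, hm, e⟩ := hD2.frattini (g := y) (mem_normalizer_of_cj_le (by
    obtain ⟨σ, hσ⟩ := hSt (mem_sup_left hy)
    rw [cj_iSup]
    refine iSup_le fun a => le_iSup_of_le (σ a) ?_
    rw [cj_inf, cj_Gam, hσ, cj_eq_self_of_mem hy]))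
  have hmH : m ∈ H := by simpa [e] using mul_mem (inv_mem (hD1 hn)) hy
  have hmN : m ∈ NN z S := ⟨hSt (mem_sup_left hmH), hm⟩
  have a1 : m * u * m⁻¹ ∈ NN z S ⊓ Bs z := mem_inf.2 ⟨mul_mem (mul_mem hmN hu.1) (inv_mem hmN),
    conj_mem_of_mem_normalizer (St_le_norm_Bs z hmN.1) hB⟩
  have a2 : u * (m * u * m⁻¹)⁻¹ ∈ S := fr.mem_of_agree h fun b =>
    (ch.ag b _ (mul_mem hu (inv_mem a1))).1 (by
      obtain ⟨σ, hσ⟩ := hmN.1
      rw [ch.add' b _ hu _ (inv_mem a1), (ch.add' b).inv a1, ch.conj m hmN u hu (σ⁻¹ b) b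
        (by rw [hσ, Classical.pm_apply_inv]), fr.chi_const h fu hS ch hk h0 hB b (σ⁻¹ b),
        add_neg_cancel])
  have a3 : u * m⁻¹ * u⁻¹ ∈ H := by
    have := mul_mem (hH a2) hmH
    simpa [mul_assoc] using inv_mem this
  rw [e, show u * (n * m) * u⁻¹ = (u * n * u⁻¹) * (u * m⁻¹ * u⁻¹)⁻¹ by group]
  exact mul_mem (hD1 (conj_mem_of_mem_normalizer hD3 hn)) (inv_mem a3)

end Fr

end CF.PnSp
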