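import Cfsg.Agent.Known.Pn.SL2
import Cfsg.Agent.Known.Pn.Gen

/-!
Plane groups in the full isometry group.
-/

set_option autoImplicit false
set_option linter.unusedSectionVars false

namespace CF.PnSp

open CF.Loc Subgroup Matrix MatrixGroups

variable {G F V : Type*} [Group G] [Field F] [AddCommGroup V] [Module F V] [DistribMulAction G V]
  [SMulCommClass G F V] {B : LinearMap.BilinForm F V}

variable (G) in
/-- Every isometry is induced by `G`. -/
def Full (B : LinearMap.BilinForm F V) : Prop :=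
  ∀ φ : V →ₗ[F] V, (∀ u v, B (φ u) (φ v) = B u v) → ∃ g : G, ∀ v, g • v = φ v

theorem Sy.exists_res (h : Sy G B) (fu : Full G B) {c : G} (hc : c * c = 1) :
    ∃ res : centralizer ({c} : Set G) →* G, ∀ x, res x ∈ Gam V c ∧
      ∀ m : V, c • m = -m → res x • m = (x : G) • m := by
  have key : ∀ x : centralizer ({c} : Set G), ∃ y : G, y ∈ Gam V c ∧
      ∀ m : V, c • m = -m → y • m = (x : G) • m := by
    intro x
    have hx := mem_centralizer_singleton_iff.1 x.2
    let φ : Module.End F V := (2 : F)⁻¹ • (rho G F V x * (1 - rho G F V c) + (1 + rho G F V c))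
    have h2 := inv_mul_cancel₀ h.two
    have hp : ∀ p : V, c • p = p → φ p = p := fun p hp => by
      simp only [φ, LinearMap.smul_apply, LinearMap.add_apply, Module.End.mul_apply,
        LinearMap.sub_apply, Module.End.one_apply, rho_apply, hp, sub_self, smul_zero, zero_add]
      rw [← two_smul F, smul_smul, h2, one_smul]
    have hm : ∀ m : V, c • m = -m → φ m = (x : G) • m := fun m hm => by
      simp only [φ, LinearMap.smul_apply, LinearMap.add_apply, Module.End.mul_apply,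
        LinearMap.sub_apply, Module.End.one_apply, rho_apply, hm, sub_neg_eq_add, add_neg_cancel,
        add_zero]
      rw [smul_add (x : G), ← two_smul F, smul_smul, h2, one_smul]
    obtain ⟨y, hy⟩ := fu φ fun u v => by
      obtain ⟨p, m, h1, h3, rfl⟩ := h.dec hc u
      obtain ⟨p', m', h1', h3', rfl⟩ := h.dec hc v
      simp only [map_add, LinearMap.add_apply, hp p h1, hp p' h1', hm m h3, hm m' h3', h.inv,
        h.pm h1 h3', h.mp h3 h1', h.pm h1 (minus_of_comm hx h3'), h.mp (minus_of_comm hx h3) h1']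
    exact ⟨y, fun p h1 => by rw [hy, hp p h1], fun m h1 => by rw [hy, hm m h1]⟩
  choose res h1 h2 using key
  refine ⟨MonoidHom.mk' res fun x y => h.gam_ext hc (h1 _) (mul_mem (h1 _) (h1 _)) fun m hm => ?_,
    fun x => ⟨h1 x, h2 x⟩⟩
  rw [h2 _ _ hm, mul_smul, h2 _ _ hm,
    h2 _ _ (minus_of_comm (mem_centralizer_singleton_iff.1 y.2) hm), coe_mul, mul_smul]

theorem Sy.exists_iota (h : Sy G B) (fu : Full G B) {z : G} (hz : PI B z) :
    ∃ ι : SL(2, F) →* G, Function.Injective ι ∧ ι.range = Gam V z ∧ ι (-1) = z := by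
  obtain ⟨e, f, H⟩ := hz
  have key : ∀ A : SL(2, F), ∃ g : G, ∀ v : V, g • v = v +
      ((A 0 0 - 1) * B v f - A 0 1 * B v e) • e + (A 1 0 * B v f - (A 1 1 - 1) * B v e) • f := by
    intro A
    have hA : A 0 0 * A 1 1 - A 0 1 * A 1 0 = 1 := by rw [← det_fin_two]; exact A.2
    refine fu (1 + ((A 0 0 - 1) • B.flip f - A 0 1 • B.flip e).smulRight e +
      (A 1 0 • B.flip f - (A 1 1 - 1) • B.flip e).smulRight f) fun u v => ?_
    simp only [LinearMap.add_apply, Module.End.one_apply, LinearMap.smulRight_apply,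
      LinearMap.sub_apply, LinearMap.smul_apply, LinearMap.BilinForm.flip_apply, smul_eq_mul,
      map_add, map_smul, h.alt, H.1, H.fe h, h.skew e v, h.skew f v]
    linear_combination (B u f * B v e * -1 + B u e * B v f) * hA
  choose ι hι using key
  have he : ∀ A, ι A • e = A 0 0 • e + A 1 0 • f := fun A => by
    rw [hι, H.1, h.alt]; module
  have hf : ∀ A, ι A • f = A 0 1 • e + A 1 1 • f := fun A => by
    rw [hι, H.fe h, h.alt]; module
  have hg : ∀ A, ι A ∈ Gam V z := fun A v hv => by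
    rw [H.plus_iff h] at hv
    rw [hι, hv.1, hv.2]; module
  have hm : ∀ (A A' : SL(2, F)) i j, (A * A') i j = A i 0 * A' 0 j + A i 1 * A' 1 j :=
    fun A A' i j => (mul_apply (M := A.1) (N := A'.1)).trans (Fin.sum_univ_two _)
  have ext : ∀ x ∈ Gam V z, ∀ y ∈ Gam V z, x • e = y • e → x • f = y • f → x = y :=
    fun x hx y hy h1 h2 => h.gam_ext (H.sq h) hx hy fun m hm => by
      rw [(H.minus_iff h).1 hm, smul_sub, smul_sub, sm, sm, sm, sm, h1, h2]
  refine ⟨MonoidHom.mk' ι fun A A' => ext _ (hg _) _ (mul_mem (hg _) (hg _)) ?_ ?_, ?_,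
    le_antisymm ?_ fun x hx => ?_, ext _ (hg _) _ (self_mem_Gam z) ?_ ?_⟩
  · simp only [mul_smul, he, hf, smul_add, sm, hm]
    module
  · simp only [mul_smul, he, hf, smul_add, sm, hm]
    module
  · intro A A' hA
    have h1 := (he A).symm.trans ((congrArg (· • e) hA).trans (he A'))
    have h2 := (hf A).symm.trans ((congrArg (· • f) hA).trans (hf A'))
    have a1 := congrArg (B · f) h1
    have a2 := congrArg (B · e) h1
    have a3 := congrArg (B · f) h2
    have a4 := congrArg (B · e) h2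
    simp [h.alt, H.1, H.fe h] at a1 a2 a3 a4
    ext i j
    fin_cases i <;> fin_cases j <;> assumption
  · rintro _ ⟨A, rfl⟩
    exact hg A
  · have h1 := (H.minus_iff h).1 (h.gam_minus (H.sq h) hx (H.minus_e h))
    have h2 := (H.minus_iff h).1 (h.gam_minus (H.sq h) hx (H.minus_f h))
    have h3 := h.inv x e f
    refine ⟨⟨!![B (x • e) f, B (x • f) f; -B (x • e) e, -B (x • f) e], ?_⟩,
      ext _ (hg _) _ hx ?_ ?_⟩
    · rw [h1, h2] at h3
      simp only [map_sub, map_smul, LinearMap.sub_apply, LinearMap.smul_apply, smul_eq_mul, h.alt,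
        H.1, H.fe h] at h3
      rw [det_fin_two_of]
      linear_combination h3
    · refine ((he _).trans ?_).trans h1.symm
      simp [sub_eq_add_neg]
    · refine ((hf _).trans ?_).trans h2.symm
      simp [sub_eq_add_neg]
  · rw [he, H.minus_e h]
    simp
  · rw [hf, H.minus_f h]
    simp

section

variable [Finite F] (h : Sy G B) (fu : Full G B) {z : G} (hz : PI B z) {R : Subgroup G}
  (hR : IsSyl 2 R (Gam V z))
include h fu hz hR

theorem Sy.exists_sl : ∃ (ι : SL(2, F) →* G) (R' : Sylow 2 SL(2, F)), Function.Injective ι ∧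
    ι.range = Gam V z ∧ ι (-1) = z ∧ R = (R' : Subgroup SL(2, F)).map ι := by
  obtain ⟨ι, h1, h2, h3⟩ := h.exists_iota fu hz
  have h4 : (R.comap ι).map ι = R := map_comap_eq_self (h2 ▸ hR.le)
  obtain ⟨R', hR'⟩ := IsSyl.exists_sylow_top (p := 2) (T := R.comap ι) ⟨le_top,
    hR.isPGroup.comap_of_injective _ h1, fun Q hQ h5 _ => by
      have := hR.eq_of_le (hQ.map ι) (h4 ▸ map_mono h5) (h2 ▸ map_le_range ι Q)
      rw [← this, comap_map_eq_self_of_injective h1]⟩
  exact ⟨ι, R', h1, h2, h3, by rw [hR', h4]⟩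

theorem Sy.syl_sq : ∃ x ∈ R, x * x = z := by
  obtain ⟨ι, R', -, -, h3, rfl⟩ := h.exists_sl fu hz hR
  obtain ⟨x, hx, e⟩ := sl_neg_mem h.two R'
  exact ⟨ι x, mem_map_of_mem ι hx, by rw [← map_mul, e, h3]⟩

theorem Sy.syl_pron {H : Subgroup G} (h1 : R ≤ H) (h2 : H ≤ Gam V z) {g : G} (hg : g ∈ Gam V z) :
    ∃ x ∈ H ⊔ cj[g] H, cj[g] H = cj[x] H := by
  obtain ⟨ι, R', -, h3, -, rfl⟩ := h.exists_sl fu hz hR
  have := (SolvStr.prn_top.2 (sl_pron h.two R' (map_le_iff_le_comap.1 h1))).map ι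
  rw [map_comap_eq_self (h3 ▸ h2), ← MonoidHom.range_eq_map, h3] at this
  exact this g hg

theorem Sy.syl_norm (hn : ¬ Gam V z ⊓ 𝐍(R) ≤ R) : Nat.card R = 8 ∧
    R.relIndex (Gam V z ⊓ 𝐍(R)) ∣ 3 ∧ ∃ i j, QD B z R i j ∧ R = closure {i, j} := by
  have hp := hR.isPGroup
  have hl := hR.le
  obtain ⟨ι, R', h1, h2, h3, rfl⟩ := h.exists_sl fu hz hR
  have e : (𝐍((R' : Subgroup SL(2, F)))).map ι =
      Gam V z ⊓ 𝐍((R' : Subgroup SL(2, F)).map ι) := by
    rw [← h2, ← map_comap_eq, comap_normalizer_eq_of_le_range (map_le_range ι _),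
      comap_map_eq_self_of_injective h1]
  obtain ⟨a1, a2, i, j, a3, a4, a5, a6⟩ := sl_norm h.two R' fun e' => hn (e ▸ map_mono e')
  refine ⟨by rw [card_map_of_injective h1]; exact a1, by
    rwa [← e, relIndex_map_map_of_injective _ _ h1], ι i, ι j, ⟨hz, hp, hl,
    mem_map_of_mem ι (a6 ▸ subset_closure (by simp)),
    mem_map_of_mem ι (a6 ▸ subset_closure (by simp)), by rw [← map_mul, a3, h3],
    by rw [← map_mul, a4, h3], by rw [← map_mul, a5, map_mul, map_mul, h3]⟩, ?_⟩
  rw [a6, MonoidHom.map_closure, Set.image_pair]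

theorem Sy.syl_relIndex : R.relIndex (Gam V z ⊓ 𝐍(R)) ∣ 3 := by
  by_cases hn : Gam V z ⊓ 𝐍(R) ≤ R
  · rw [relIndex_eq_one.2 hn]
    exact one_dvd _
  · exact (h.syl_norm fu hz hR hn).2.1

end

end CF.PnSp
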