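import Cfsg.Agent.Known.Pn.Main
import Cfsg.Agent.Classical.Pronormal

/-!
Products of symplectic groups of `2`-power dimension.
-/

set_option autoImplicit false
set_option linter.unusedSectionVars false

namespace CF.PnSp

open CF.Loc Subgroup Matrix

/-- The properties of a factor used for products. -/
def PnG (G : Type*) [Group G] : Prop := ∃ S : Subgroup G, IsSyl 2 S ⊤ ∧
  (∀ g ∈ 𝐍(S), ∀ g' ∈ 𝐍(S), g * g' * g⁻¹ * g'⁻¹ ∈ S) ∧
  ∀ H, S ≤ H → ∀ g ∈ 𝐍(S), g ∈ H ⊔ cj[g] H ∨ g ∈ 𝐍(H)

theorem pron_pi {ι : Type*} [Fintype ι] [DecidableEq ι] {G : ι → Type*} [∀ i, Group (G i)]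
    [∀ i, Finite (G i)] (hG : ∀ i, PnG (G i)) {H : Subgroup (∀ i, G i)} (hH : Odd H.index) :
    Cfsg.IsPronormal H := by
  choose S h1 h2 h3 using hG
  have hS : IsSyl 2 (pi Set.univ S) ⊤ := by
    refine ⟨le_top, isPGroup_iff_forall.2 fun x hx => ?_, fun Q hQ a1 _ =>
      le_antisymm (fun x hx i _ => ?_) a1⟩
    · choose k hk using fun i => isPGroup_iff_forall.1 (h1 i).isPGroup (x i) (hx i trivial)
      refine ⟨∑ i, k i, funext fun i => ?_⟩
      rw [Pi.pow_apply, ← Finset.add_sum_erase _ _ (Finset.mem_univ i), pow_add, pow_mul, hk,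
        one_pow, Pi.one_apply]
    · have := (h1 i).eq_of_le (hQ.map (Pi.evalMonoidHom G i)) (fun y hy =>
        ⟨Pi.mulSingle i y, a1 fun j _ => by
          by_cases e : j = i
          · subst e; simpa using hy
          · simp [Pi.mulSingle_eq_of_ne e], by simp⟩) le_top
      exact this.le (mem_map_of_mem (Pi.evalMonoidHom G i) hx)
  obtain ⟨P, hP⟩ := Classical.exists_sylow_le_of_not_dvd_index (p := 2) hH.not_two_dvd_nat
  obtain ⟨l, -, hl⟩ := (isSyl_top P).conj hS
  refine SolvStr.prn_top.1 (SolvStr.Prn.of_cj (g := l) (SolvStr.prn_top.2 ?_))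
  replace hP : pi Set.univ S ≤ cj[l] H := hl ▸ cj_mono l hP
  change Cfsg.IsPronormal (cj[l] H)
  generalize cj[l] H = H at hP
  obtain ⟨P, hP'⟩ := hS.exists_sylow_top
  refine (Cfsg.Agent.S3820.result _ H hP (hP' ▸ Classical.isPronormal_sylow P)).2 fun g hg => ?_
  have e1 : ∀ (y : ∀ i, G i) i (x : G i), y * Pi.mulSingle i x * y⁻¹ =
      Pi.mulSingle i (y i * x * (y i)⁻¹) := fun y i x => funext fun j => by
    by_cases e : j = i
    · subst e; simp
    · simp [Pi.mulSingle_eq_of_ne e]
  have e2 : ∀ i, S i ≤ H.comap (MonoidHom.mulSingle G i) := fun i x hx => hP fun j _ => by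
    by_cases e : j = i
    · subst e; simpa using hx
    · simp [Pi.mulSingle_eq_of_ne e]
  have key : ∀ i, Pi.mulSingle i (g i) ∈ H ⊔ cj[g] H ∨ Pi.mulSingle i (g i) ∈ 𝐍(H) := by
    intro i
    have hg' : g i ∈ 𝐍(S i) := mem_normalizer_of_conj_mem fun x hx => by
      have := conj_mem_of_mem_normalizer hg (x := Pi.mulSingle i x) (fun j _ => by
        by_cases e : j = i
        · subst e; simpa using hx
        · simp [Pi.mulSingle_eq_of_ne e]) i trivial
      simpa using this
    refine (h3 i _ (e2 i) _ hg').imp (fun e => ?_) fun e => mem_normalizer_of_conj_mem fun y hy => ?_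
    · refine (sup_le (fun x hx => mem_sup_left hx) (cj_le_iff_forall.2 fun x hx => ?_) :
        _ ≤ (H ⊔ cj[g] H).comap (MonoidHom.mulSingle G i)) e
      exact mem_sup_right (show Pi.mulSingle i _ ∈ _ from e1 g i x ▸ conj_mem_cj g hx)
    · obtain ⟨n, hn, m, hm, e'⟩ := ((h1 i).mono (e2 i) le_top).frattini (g := y i)
        (mem_normalizer_of_conj_mem fun x hx => show Pi.mulSingle i _ ∈ H from
          e1 y i x ▸ mul_mem (mul_mem hy hx) (inv_mem hy))
      have a1 := mul_mem (mul_mem (conj_mem_of_mem_normalizer e hn) (e2 i (h2 i _ hg' _ hm)))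
        (inv_mem hn)
      have a2 : Pi.mulSingle i (g i) * y * (Pi.mulSingle i (g i))⁻¹ = MonoidHom.mulSingle G i
          (g i * n * (g i)⁻¹ * (g i * m * (g i)⁻¹ * m⁻¹) * n⁻¹) * y := funext fun j => by
        by_cases e : j = i
        · subst e
          simp [e', mul_assoc]
        · simp [Pi.mulSingle_eq_of_ne e]
      rw [a2]
      exact mul_mem a1 hy
  have main : ∀ I : Finset ι, ∃ w ∈ H ⊔ cj[g] H, ∃ u ∈ 𝐍(H), I.piecewise g 1 = w * u := by
    intro I
    induction I using Finset.induction_on with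
    | empty => exact ⟨1, one_mem _, 1, one_mem _, by simp⟩
    | insert i I hi ih =>
      obtain ⟨w, hw, u, hu, e⟩ := ih
      have a1 : (insert i I).piecewise g 1 = Pi.mulSingle i (g i) * I.piecewise g 1 ∧
          (insert i I).piecewise g 1 = I.piecewise g 1 * Pi.mulSingle i (g i) := by
        constructor <;> funext j <;> by_cases e : j = i
        · subst e; simp [Finset.piecewise, hi]
        · simp [Finset.piecewise, e]
        · subst e; simp [Finset.piecewise, hi]
        · simp [Finset.piecewise, e]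
      rcases key i with a | a
      · exact ⟨_, mul_mem a hw, u, hu, by rw [a1.1, e, mul_assoc]⟩
      · exact ⟨w, hw, _, mul_mem hu a, by rw [a1.2, e, mul_assoc]⟩
  obtain ⟨w, hw, u, hu, e⟩ := main Finset.univ
  rw [Finset.piecewise_univ] at e
  refine ⟨w, hw, ?_⟩
  nth_rewrite 1 [e]
  rw [cj_mul, cj_eq_self hu]

theorem Sy.exists_hp {G F V : Type*} [Group G] [Field F] [AddCommGroup V] [Module F V]
    [DistribMulAction G V] [SMulCommClass G F V] {B : LinearMap.BilinForm F V} (h : Sy G B)
    (fu : Full G B) {e f : V} (H : B e f = 1) : ∃ z : G, HP B z e f := by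
  obtain ⟨z, hz⟩ := fu (1 - (2 : F) • ((B.flip f).smulRight e - (B.flip e).smulRight f))
    fun u v => by
      simp only [LinearMap.sub_apply, Module.End.one_apply, LinearMap.smulRight_apply,
        LinearMap.smul_apply, LinearMap.BilinForm.flip_apply, smul_eq_mul, map_sub, map_smul, h.alt,
        H, h.skew f e, h.skew e v, h.skew f v]
      ring
  exact ⟨z, H, hz⟩

theorem pnG_sp {F : Type*} [Field F] [Finite F] (h2 : (2 : F) ≠ 0) {m k : ℕ} (hm : m = 2 ^ k) :
    PnG (symplecticGroup (Fin m) F) := by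
  letI : DistribMulAction (symplecticGroup (Fin m) F) (Fin m ⊕ Fin m → F) :=
    { smul := fun g v => g.1 *ᵥ v
      one_smul := one_mulVec
      mul_smul := fun g g' v => (mulVec_mulVec v g.1 g'.1).symm
      smul_zero := fun g => mulVec_zero g.1
      smul_add := fun g => mulVec_add g.1 }
  have hs : ∀ (g : symplecticGroup (Fin m) F) (v : Fin m ⊕ Fin m → F), g • v = g.1 *ᵥ v :=
    fun _ _ => rfl
  haveI : SMulCommClass (symplecticGroup (Fin m) F) F (Fin m ⊕ Fin m → F) :=
    ⟨fun g a v => mulVec_smul g.1 a v⟩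
  let B := Matrix.toBilin' (J (Fin m) F)
  have hB : ∀ u v, B u v = ∑ a, (u (.inr a) * v (.inl a) - u (.inl a) * v (.inr a)) := by
    intro u v
    rw [Finset.sum_sub_distrib]
    simp [B, toBilin'_apply', J, dotProduct, fromBlocks_mulVec, neg_mulVec, sub_eq_neg_add]
  have b1 : ∀ u a, B u (Pi.single (.inl a) 1) = u (.inr a) := fun u a => by
    simp [hB, Pi.single_apply]
  have b2 : ∀ u a, B u (Pi.single (.inr a) 1) = -u (.inl a) := fun u a => by
    simp [hB, Pi.single_apply]
  have h0 : ∀ v, (∀ a, B v (Pi.single (.inr a) 1) = 0 ∧ B v (Pi.single (.inl a) 1) = 0) → v = 0 :=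
    fun v H => funext fun x => by
      rcases x with a | a
      · simpa [b2] using (H a).1
      · simpa [b1] using (H a).2
  have h : Sy (symplecticGroup (Fin m) F) B := ⟨h2, fun v => by simp [hB, mul_comm],
    fun v H => h0 v fun a => ⟨H _, H _⟩, fun g u v => by
      rw [hs, hs, toBilin'_apply', toBilin'_apply', mulVec_mulVec, dotProduct_mulVec,
        vecMul_mulVec, ← Matrix.mul_assoc, SymplecticGroup.mem_iff'.1 g.2, dotProduct_mulVec],
    fun g H => Subtype.ext (by
      rw [← mulVec_injective.eq_iff]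
      funext v
      exact (H v).trans (one_mulVec v).symm)⟩
  have fu : Full (symplecticGroup (Fin m) F) B := fun φ H => by
    refine ⟨⟨LinearMap.toMatrix' φ, SymplecticGroup.mem_iff'.2 ?_⟩, fun v => by
      rw [hs, LinearMap.toMatrix'_mulVec]⟩
    apply Matrix.toBilin'.injective
    refine LinearMap.ext₂ fun u v => ?_
    rw [← H, toBilin'_apply', toBilin'_apply', ← LinearMap.toMatrix'_mulVec,
      ← LinearMap.toMatrix'_mulVec, mulVec_mulVec, dotProduct_mulVec, dotProduct_mulVec,
      vecMul_mulVec, Matrix.mul_assoc]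
  choose z hz using fun a : Fin m => h.exists_hp fu (e := Pi.single (.inr a) 1)
    (f := Pi.single (.inl a) 1) (by simp [b1])
  have fr : Fr B z := ⟨fun a => ⟨_, _, hz a⟩, fun a b hab v hv => by
    rw [((hz b).minus_iff h).1 hv, (hz a).plus_iff h, b1, b2, b1, b2]
    simp [hab], fun v H => h0 v fun a => ((hz a).plus_iff h).1 (H a)⟩
  obtain ⟨S, hS⟩ := exists_isSyl 2 (St z)
  have hk : Fintype.card (Fin m) = 2 ^ k := by rw [Fintype.card_fin, hm]
  exact ⟨S, fr.syl_top h fu hS, fun g hg g' hg' => fr.comm_mem' h fu hS hk hg hg',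
    fun H hH g hg => fr.main h fu hS hk hH hg⟩

theorem pron_psp {t : ℕ} (m : Fin t → ℕ) (F : Fin t → Type*) [∀ i, Field (F i)]
    [∀ i, Fintype (F i)] (hm : ∀ i, ∃ k : ℕ, m i = 2 ^ k) (hodd : ∀ i, Odd (Fintype.card (F i)))
    (H : Subgroup (Π i, Cfsg.PSp (m i) (F i))) (hH : Odd H.index) : Cfsg.IsPronormal H := by
  let f : (Π i, symplecticGroup (Fin (m i)) (F i)) →* Π i, Cfsg.PSp (m i) (F i) :=
    MonoidHom.pi fun i => (QuotientGroup.mk' _).comp (Pi.evalMonoidHom _ i)
  have hf : Function.Surjective f := fun x => by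
    choose y hy using fun i => QuotientGroup.mk'_surjective _ (x i)
    exact ⟨y, funext hy⟩
  have := (SolvStr.prn_top.2 (pron_pi (H := H.comap f) (fun i => (hm i).elim fun k hk =>
    pnG_sp (Classical.pn_two_ne (hodd i)) hk) (by rwa [index_comap_of_surjective _ hf]))).map f
  rwa [map_comap_eq_self_of_surjective hf, map_top_of_surjective _ hf, SolvStr.prn_top] at this

end CF.PnSp
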