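import Cfsg.Agent.Classical.PnTow2
import Cfsg.Agent.Classical.PnL2
import Cfsg.Agent.Classical.SL2b
import Cfsg.Agent.Classical.SL2Class
import Cfsg.Agent.Classical.SmallIso
import Cfsg.Agent.Classical.PnCls
import Cfsg.Agent.SolvStr.Pron
import Cfsg.Agent.S3742
import Cfsg.Agent.Loc.Syl

/-!
Sylow `2`-subgroups of `SL(2, F)`, their normalizers and overgroups.
-/

set_option autoImplicit false
set_option linter.unusedSectionVars false

namespace CF.PnSp

open CF.Loc CF.Classical Subgroup Matrix MatrixGroups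

variable {F : Type*} [Field F] [Finite F]

theorem sl_neg_mem (h2 : (2 : F) ≠ 0) (R : Sylow 2 SL(2, F)) :
    ∃ x ∈ (R : Subgroup SL(2, F)), x * x = -1 := by
  obtain ⟨m, hm, ⟨e⟩⟩ := sylow_two_SL2 h2 R
  refine ⟨(e.symm (.xa 0) : R), (e.symm _).2, ((SL2_mul_self_eq_one_iff h2).1 ?_).resolve_left ?_⟩
  · have : (e.symm (.xa 0)) ^ 4 = 1 := by rw [← map_pow, QuaternionGroup.xa_pow_four, map_one]
    have := congrArg Subtype.val this
    simpa [pow_succ, mul_assoc] using this
  · intro h
    haveI : NeZero (2 ^ m) := ⟨by positivity⟩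
    have : (e.symm (.xa 0)) ^ 2 = 1 := Subtype.ext (by simpa [sq] using h)
    rw [← map_pow, MulEquiv.map_eq_one_iff] at this
    have := orderOf_dvd_of_pow_eq_one this
    rw [QuaternionGroup.orderOf_xa] at this
    omega

theorem sl_pron (h2 : (2 : F) ≠ 0) (R : Sylow 2 SL(2, F)) {H : Subgroup SL(2, F)}
    (hH : (R : Subgroup SL(2, F)) ≤ H) : Cfsg.IsPronormal H := by
  have hi : ¬ 2 ∣ H.index := fun h => R.not_dvd_index (h.trans (index_dvd_of_le hH))
  by_cases h4 : 4 ≤ Nat.card F
  · haveI := isSimpleGroup_PSL2 h4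
    haveI := Fintype.ofFinite F
    have hs := QuotientGroup.mk'_surjective (center SL(2, F))
    have := isPronormal_PSL2_odd (F := F)
      (by rw [← Nat.card_eq_fintype_card]; exact odd_card_of_two_ne_zero h2)
      (H := H.map (QuotientGroup.mk' _)) (Nat.odd_iff.2 (Nat.two_dvd_ne_zero.1 fun h =>
        hi (h.trans (H.index_map_dvd hs))))
    rw [← SolvStr.prn_top, ← map_top_of_surjective _ hs] at this
    refine SolvStr.prn_top.1 (this.of_map ?_)
    rw [QuotientGroup.ker_mk']
    intro x hx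
    obtain ⟨y, hy, e⟩ := sl_neg_mem h2 R
    rcases mem_center_SL2_iff.1 hx with rfl | rfl
    · exact one_mem _
    · exact e ▸ hH (mul_mem hy hy)
  · have h3 : Nat.card F = 3 := by
      obtain ⟨k, hk⟩ := odd_card_of_two_ne_zero h2
      have := Finite.one_lt_card (α := F)
      omega
    have h5 : Nat.card SL(2, F) = 24 := by rw [card_SL2, h3]; rfl
    have h6 : (R : Subgroup SL(2, F)).index = 3 := by
      have := (R : Subgroup SL(2, F)).card_mul_index
      rw [R.card_eq_multiplicity, h5, show (24 : ℕ).factorization 2 = 3 by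
        rw [show 24 = 2 ^ 3 * 3 from rfl, Nat.factorization_mul (by norm_num) (by norm_num),
          Nat.prime_two.factorization_pow, Nat.prime_three.factorization]
        simp] at this
      omega
    have h7 := relIndex_mul_index hH
    rw [h6] at h7
    rcases (Nat.dvd_prime Nat.prime_three).1 (Dvd.intro_left _ h7) with e | e
    · rw [index_eq_one.1 e]
      exact isPronormal_top
    · rw [e, Nat.mul_eq_right (by norm_num), relIndex_eq_one] at h7
      rw [le_antisymm h7 hH]
      exact isPronormal_sylow R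

theorem sl_scalar {x : SL(2, F)} (h : PnSc (SpecialLinearGroup.toGL x).1) : x = 1 ∨ x = -1 :=
  mem_center_SL2_iff.1 (mem_center_iff.2 fun t => Subtype.ext (h.comm t.1).symm)

theorem sl_norm (h2 : (2 : F) ≠ 0) (R : Sylow 2 SL(2, F))
    (hR : ¬ 𝐍((R : Subgroup SL(2, F))) ≤ (R : Subgroup SL(2, F))) :
    Nat.card R = 8 ∧ (R : Subgroup SL(2, F)).relIndex 𝐍((R : Subgroup SL(2, F))) ∣ 3 ∧ ∃ i j : SL(2, F),
      i * i = -1 ∧ j * j = -1 ∧ i * j = -1 * (j * i) ∧ (R : Subgroup SL(2, F)) = closure {i, j} := by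
  obtain ⟨m, hm, ⟨e⟩⟩ := sylow_two_SL2 h2 R
  have hodd : ¬ 2 ∣ (R : Subgroup SL(2, F)).relIndex 𝐍((R : Subgroup SL(2, F))) :=
    (isSyl_of_le R le_normalizer).not_dvd_relIndex
  let f : QuaternionGroup (2 ^ m) →* SL(2, F) := (R : Subgroup SL(2, F)).subtype.comp e.symm
  have hf : Function.Injective f := (subtype_injective _).comp e.symm.injective
  have hfR : ∀ x, f x ∈ (R : Subgroup SL(2, F)) := fun x => (e.symm x).2
  have hm1 : m = 1 := by
    by_contra hm1
    obtain ⟨r, hr, hd⟩ := Nat.exists_prime_and_dvd (n := (R : Subgroup SL(2, F)).relIndex 𝐍((R : Subgroup SL(2, F))))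
      fun e => hR (relIndex_eq_one.1 e)
    haveI := Fact.mk hr
    have hr2 : r ≠ 2 := fun e => hodd (e ▸ hd)
    obtain ⟨x, hx, hxr⟩ := exists_orderOf_eq_of_dvd_card (p := r) (H := 𝐍((R : Subgroup SL(2, F))))
      (hd.trans (Subgroup.relIndex_dvd_card (R : Subgroup SL(2, F)) 𝐍((R : Subgroup SL(2, F)))))
    have := pn_norm_two h2 (T := (R : Subgroup SL(2, F)).map SpecialLinearGroup.toGL)
      (R.isPGroup'.map _) (mem_map_of_mem _ (hfR (.a 1))) (mem_map_of_mem _ (hfR (.xa 0)))
      (pn_ne_map SpecialLinearGroup.toGL_injective (pn_ne_map hf (pn_quat two_pos (by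
        calc 2 = 2 ^ 1 := rfl
          _ < 2 ^ m := Nat.pow_lt_pow_right (by norm_num) (by omega)))))
      (SpecialLinearGroup.toGL x) (by
        rw [orderOf_injective _ SpecialLinearGroup.toGL_injective, hxr]
        exact hr.odd_of_ne_two hr2) (by
        rintro _ ⟨t, ht, rfl⟩
        exact ⟨x * t * x⁻¹, conj_mem_of_mem_normalizer hx ht, by simp⟩)
    have h3 := orderOf_dvd_of_pow_eq_one
      ((sq x).trans ((SL2_mul_self_eq_one_iff h2).2 (sl_scalar this)))
    rw [hxr] at h3
    exact hr2 ((Nat.prime_dvd_prime_iff_eq hr Nat.prime_two).1 h3)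
  subst hm1
  have hz : f (.a 2) = -1 := ((SL2_mul_self_eq_one_iff h2).1 (by
    rw [← map_mul, ← map_one f]; congr 1)).resolve_left fun e =>
      absurd (hf (e.trans (map_one f).symm)) (by decide)
  have hc : Nat.card R = 8 := by
    rw [Nat.card_congr e.toEquiv, Nat.card_eq_fintype_card]; rfl
  have h1 : f (.a 1) * f (.a 1) = -1 := by rw [← map_mul, ← hz]; congr 1
  have h3 : f (.xa 0) * f (.xa 0) = -1 := by rw [← map_mul, ← hz]; congr 1
  have h4 : f (.a 1) * f (.xa 0) = -1 * (f (.xa 0) * f (.a 1)) := by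
    rw [← hz, ← map_mul, ← map_mul, ← map_mul]; congr 1
  refine ⟨hc, ?_, f (.a 1), f (.xa 0), h1, h3, h4, le_antisymm (fun x hx => ?_)
    ((closure_le _).2 (by rintro _ (rfl | rfl) <;> exact hfR _))⟩
  · have a1 : Nat.card (MulAut R) = 24 := by
      obtain ⟨e'⟩ := Cfsg.Agent.S3742.result
      rw [Nat.card_congr ((MulAut.congr e).trans e').toEquiv, Nat.card_perm, Nat.card_fin]
      rfl
    have a2 : (R : Subgroup SL(2, F)).normalizerMonoidHom.ker.index ∣ 24 := by
      rw [index_ker, ← a1]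
      exact card_subgroup_dvd_card _
    have a3 : Nat.card (R : Subgroup SL(2, F)).normalizerMonoidHom.ker ∣ 2 := by
      have : (R : Subgroup SL(2, F)).normalizerMonoidHom.ker.map (Subgroup.subtype _) ≤
          zpowers (-1 : SL(2, F)) := by
        rintro _ ⟨x, hx, rfl⟩
        rw [normalizerMonoidHom_ker] at hx
        have b1 := congrArg (fun t => (SpecialLinearGroup.toGL t).1) (hx _ (hfR (.a 1)))
        have b2 := congrArg (fun t => (SpecialLinearGroup.toGL t).1) (hx _ (hfR (.xa 0)))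
        simp only [map_mul, Units.val_mul] at b1 b2
        rcases sl_scalar (pn_anti h2 (s := SpecialLinearGroup.toGL (f (.a 1)))
          (z := SpecialLinearGroup.toGL (f (.xa 0))) (by
            rw [← map_mul SpecialLinearGroup.toGL, h4, ← map_mul SpecialLinearGroup.toGL,
              neg_one_mul]
            exact Units.ext rfl) (fun h => by
            have := (SL2_mul_self_eq_one_iff h2).2 (sl_scalar h)
            exact neg_one_ne_one_SL2 h2 (h3.symm.trans this)) b2.symm b1.symm) with h | h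
        · exact (show _ = _ from h) ▸ one_mem (zpowers (-1 : SL(2, F)))
        · exact (show _ = _ from h) ▸ mem_zpowers (-1 : SL(2, F))
      have a4 := card_dvd_of_le this
      rw [card_map_of_injective (subtype_injective _), Nat.card_zpowers,
        orderOf_eq_prime (p := 2) (by simp) (neg_one_ne_one_SL2 h2)] at a4
      exact a4
    have a5 := Nat.mul_dvd_mul a3 a2
    rw [card_mul_index, ← card_mul_index ((R : Subgroup SL(2, F)).subgroupOf 𝐍((R : Subgroup SL(2, F)))),
      Nat.card_congr (subgroupOfEquivOfLe le_normalizer).toEquiv, hc] at a5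
    have a6 : (R : Subgroup SL(2, F)).relIndex 𝐍((R : Subgroup SL(2, F))) ∣ 2 * 3 :=
      Nat.dvd_of_mul_dvd_mul_left (by norm_num : 0 < 8) a5
    exact (Nat.Coprime.dvd_mul_left (Nat.coprime_two_right.2
      (Nat.odd_iff.2 (Nat.two_dvd_ne_zero.1 hodd)))).1 a6
  · obtain ⟨y, rfl⟩ : ∃ y, f y = x := ⟨e ⟨x, hx⟩, by simp [f]⟩
    obtain ⟨a, b, rfl⟩ := Cfsg.Agent.S3742.gen y
    rw [map_mul, map_pow, map_pow]
    exact mul_mem (pow_mem (subset_closure (by simp)) _) (pow_mem (subset_closure (by simp)) _)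

end CF.PnSp
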