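import Cfsg.Agent.Known.Pn.Frame

/-!
The transfer to the group of order three.
-/

set_option autoImplicit false
set_option linter.unusedSectionVars false

namespace CF.PnSp

open CF.Loc Subgroup

section add

variable {G : Type*} [Group G]

/-- `f` is additive on `N`. -/
def AddOn (N : Subgroup G) (f : G → ZMod 3) : Prop := ∀ x ∈ N, ∀ y ∈ N, f (x * y) = f x + f y

namespace AddOn

variable {N : Subgroup G} {f : G → ZMod 3} (hf : AddOn N f)
include hf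

theorem one : f 1 = 0 := by simpa using hf 1 N.one_mem 1 N.one_mem

theorem inv {x : G} (hx : x ∈ N) : f x⁻¹ = -f x := by
  have := hf _ (N.inv_mem hx) _ hx
  rw [inv_mul_cancel, hf.one] at this
  linear_combination -this

theorem pow {x : G} (hx : x ∈ N) (n : ℕ) : f (x ^ n) = n * f x := by
  induction n with
  | zero => simp [hf.one]
  | succ n ih => rw [pow_succ, hf _ (N.pow_mem hx n) _ hx, ih]; push_cast; ring

theorem two {S : Subgroup G} (hS : IsPGroup 2 S) {x : G} (hx : x ∈ N) (hx' : x ∈ S) : f x = 0 := by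
  obtain ⟨k, hk⟩ := isPGroup_iff_forall.1 hS x hx'
  have := hf.pow hx (2 ^ k)
  rw [hk, hf.one, eq_comm, mul_eq_zero] at this
  refine this.resolve_left ?_
  push_cast
  exact pow_ne_zero k (by decide)

theorem conj {x y : G} (hx : x ∈ N) (hy : y ∈ N) : f (x * y * x⁻¹) = f y := by
  rw [hf _ (N.mul_mem hx hy) _ (N.inv_mem hx), hf _ hx _ hy, hf.inv hx]; ring

/-- The kernel. -/
def ker : Subgroup G where
  carrier := {x | x ∈ N ∧ f x = 0}
  one_mem' := ⟨N.one_mem, hf.one⟩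
  mul_mem' := fun {a b} ha hb => ⟨N.mul_mem ha.1 hb.1, by rw [hf _ ha.1 _ hb.1, ha.2, hb.2, add_zero]⟩
  inv_mem' := fun {a} ha => ⟨N.inv_mem ha.1, by rw [hf.inv ha.1, ha.2, neg_zero]⟩

theorem exists_norm [Finite G] {S K : Subgroup G} (hS : IsSyl 2 S ⊤) (h1 : S ≤ K) (h2 : S ≤ N)
    {y : G} (hy : y ∈ K) (hy' : y ∈ N) : ∃ m ∈ K ⊓ 𝐍(S), f m = f y := by
  have h3 : IsSyl 2 S (K ⊓ hf.ker) :=
    hS.mono (le_inf h1 fun s hs => ⟨h2 hs, hf.two hS.isPGroup (h2 hs) hs⟩) le_top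
  obtain ⟨n, hn, m, hm, e⟩ := h3.frattini (g := y) (mem_normalizer_of_conj_mem fun x hx =>
    mem_inf.2 ⟨mul_mem (mul_mem hy hx.1) (inv_mem hy), mul_mem (mul_mem hy' hx.2.1) (inv_mem hy'),
      (hf.conj hy' hx.2.1).trans hx.2.2⟩)
  have e' : m = n⁻¹ * y := by rw [e, inv_mul_cancel_left]
  refine ⟨m, mem_inf.2 ⟨e' ▸ mul_mem (inv_mem (mem_inf.1 hn).1) hy, hm⟩, ?_⟩
  rw [e', hf _ (N.inv_mem hn.2.1) _ hy', hf.inv hn.2.1, hn.2.2, neg_zero, zero_add]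

end AddOn

theorem exists_zmod_three {R L : Subgroup G} (h1 : L ≤ 𝐍(R)) (h2 : R.relIndex L ∣ 3) :
    ∃ φ : L →* Multiplicative (ZMod 3), ∀ x : L, φ x = 1 ↔ (x : G) ∈ R := by
  haveI : (R.subgroupOf L).Normal := normal_subgroupOf_of_le_normalizer h1
  rcases (Nat.dvd_prime Nat.prime_three).1 h2 with e | e
  · exact ⟨1, fun x => ⟨fun _ => relIndex_eq_one.1 e x.2, fun _ => rfl⟩⟩
  · haveI : Fact (Nat.Prime 3) := ⟨Nat.prime_three⟩
    let ψ : L ⧸ R.subgroupOf L ≃* Multiplicative (ZMod 3) := mulEquivOfPrimeCardEq (p := 3) e (by simp)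
    refine ⟨ψ.toMonoidHom.comp (QuotientGroup.mk' _), fun x => ?_⟩
    simp [mem_subgroupOf]

end add

variable {G F V : Type*} [Group G] [Field F] [AddCommGroup V] [Module F V] [DistribMulAction G V]
  [SMulCommClass G F V] {B : LinearMap.BilinForm F V} {ι : Type} [Fintype ι] [DecidableEq ι]

variable (V) in
/-- `y` acts on the plane of `c` as an element of `S`. -/
def Ag (S : Subgroup G) (c y : G) : Prop :=
  ∃ r ∈ S ⊓ Gam V c, ∀ m : V, c • m = -m → y • m = r • m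

theorem Ag.conj {S : Subgroup G} {c y s : G} (H : Ag V S c y) (hs : s ∈ S) :
    Ag V S (s * c * s⁻¹) (s * y * s⁻¹) := by
  obtain ⟨r, hr, H⟩ := H
  refine ⟨s * r * s⁻¹, mem_inf.2 ⟨mul_mem (mul_mem hs hr.1) (inv_mem hs), conj_mem_Gam s hr.2⟩,
    fun m hm => ?_⟩
  have := conj_minus s⁻¹ hm
  simp only [mul_smul, inv_inv, inv_smul_smul, smul_inv_smul] at this ⊢
  rw [H _ this]

theorem ag_conj_iff {S : Subgroup G} {c y s : G} (hs : s ∈ S) :
    Ag V S (s * c * s⁻¹) (s * y * s⁻¹) ↔ Ag V S c y :=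
  ⟨fun H => by simpa [mul_assoc] using H.conj (inv_mem hs), fun H => H.conj hs⟩

/-- The normalizer of the base of the Sylow subgroup. -/
def NN (z : ι → G) (S : Subgroup G) : Subgroup G := St z ⊓ 𝐍(S ⊓ Bs z)

theorem Sy.exists_phi [Finite F] (h : Sy G B) (fu : Full G B) {c : G} (hc : PI B c)
    {S : Subgroup G} (hS : IsSyl 2 (S ⊓ Gam V c) (Gam V c)) : ∃ φ : G → ZMod 3,
    AddOn (centralizer {c} ⊓ 𝐍(S ⊓ Gam V c)) φ ∧
      ∀ x ∈ centralizer {c} ⊓ 𝐍(S ⊓ Gam V c), φ x = 0 ↔ Ag V S c x := by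
  classical
  obtain ⟨res, hres⟩ := h.exists_res fu (hc.sq h)
  obtain ⟨ψ, hψ⟩ := exists_zmod_three inf_le_right (h.syl_relIndex fu hc hS)
  have hm : ∀ (x : G) (hx : x ∈ centralizer {c} ⊓ 𝐍(S ⊓ Gam V c)),
      res ⟨x, hx.1⟩ ∈ Gam V c ⊓ 𝐍(S ⊓ Gam V c) := fun x hx => by
    refine ⟨(hres _).1, (mem_normalizer_iff).2 fun r => ?_⟩
    have hx' := mem_centralizer_singleton_iff.1 hx.1
    have key : ∀ r ∈ Gam V c, res ⟨x, hx.1⟩ * r * (res ⟨x, hx.1⟩)⁻¹ = x * r * x⁻¹ := by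
      intro r hr
      have h1 : x * r * x⁻¹ ∈ Gam V c := by
        have := conj_mem_Gam x hr
        rwa [hx', mul_inv_cancel_right] at this
      refine h.gam_ext (hc.sq h) (mul_mem (mul_mem (hres _).1 hr) (inv_mem (hres _).1)) h1
        fun m hm => ?_
      have h2 : c • x⁻¹ • m = -(x⁻¹ • m) :=
        minus_of_comm (mem_centralizer_singleton_iff.1 (inv_mem hx.1)) hm
      rw [← map_inv, mul_smul, mul_smul, (hres _).2 m hm, mul_smul, mul_smul]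
      exact (hres _).2 _ (h.gam_minus (hc.sq h) hr h2)
    constructor
    · intro hr
      rw [key r hr.2]
      exact conj_mem_of_mem_normalizer hx.2 hr
    · intro hr
      have h1 : r ∈ Gam V c := by
        have := mul_mem (mul_mem (inv_mem (hres ⟨x, hx.1⟩).1) hr.2) (hres ⟨x, hx.1⟩).1
        simpa [mul_assoc] using this
      rw [key r h1] at hr
      exact (mem_normalizer_iff.1 hx.2 r).2 hr
  refine ⟨fun x => if hx : x ∈ centralizer {c} ⊓ 𝐍(S ⊓ Gam V c) then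
    (ψ ⟨res ⟨x, hx.1⟩, hm x hx⟩).toAdd else 0, fun x hx y hy => ?_, fun x hx => ?_⟩
  · simp only [dif_pos hx, dif_pos hy, dif_pos (mul_mem hx hy)]
    rw [← toAdd_mul, ← map_mul]
    congr 2
    exact Subtype.ext (map_mul res ⟨x, hx.1⟩ ⟨y, hy.1⟩)
  · simp only [dif_pos hx]
    rw [toAdd_eq_zero, hψ]
    refine ⟨fun H => ⟨_, H, fun m hm => ((hres ⟨x, hx.1⟩).2 m hm).symm⟩, fun ⟨r, hr, H⟩ => ?_⟩
    rw [show ((⟨res ⟨x, hx.1⟩, hm x hx⟩ : (Gam V c ⊓ 𝐍(S ⊓ Gam V c) : Subgroup G)) : G) = r from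
      h.gam_ext (hc.sq h) (hres _).1 hr.2 fun m hm => ((hres _).2 m hm).trans (H m hm)]
    exact hr

/-- The transfer and its coordinates. -/
structure Chi (V : Type*) [AddCommGroup V] [DistribMulAction G V] (z : ι → G) (S : Subgroup G)
    (χ : ι → G → ZMod 3) (τ : G → ZMod 3) : Prop where
  add : AddOn (NN z S) τ
  sum : ∀ y ∈ Bs z, τ y = ∑ a, χ a y
  add' : ∀ a, AddOn (NN z S ⊓ Bs z) (χ a)
  ag : ∀ a, ∀ y ∈ NN z S ⊓ Bs z, χ a y = 0 ↔ Ag V S (z a) y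
  conj : ∀ x ∈ NN z S, ∀ y ∈ NN z S ⊓ Bs z, ∀ a b, x * z a * x⁻¹ = z b → χ b (x * y * x⁻¹) = χ a y

namespace Fr

variable (h : Sy G B) {z : ι → G} (fr : Fr B z) [Finite G] [Finite F] (fu : Full G B)
  {S : Subgroup G} (hS : IsSyl 2 S (St z))
include h fr fu hS

theorem norm_le_NN : 𝐍(S) ≤ NN z S :=
  le_inf (fr.norm_le_St h fu hS) (le_normalizer_inf le_rfl
    ((fr.norm_le_St h fu hS).trans (St_le_norm_Bs z)))

theorem le_NN : S ≤ NN z S := le_normalizer.trans (fr.norm_le_NN h fu hS)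

theorem cj_R {x : G} (hx : x ∈ NN z S) {a b : ι} (e : x * z a * x⁻¹ = z b) :
    cj[x] (S ⊓ Gam V (z a)) = S ⊓ Gam V (z b) := by
  have e1 : ∀ a, S ⊓ Gam V (z a) = (S ⊓ Bs z) ⊓ Gam V (z a) := fun a => by
    rw [inf_assoc, inf_eq_right.2 (fr.Gam_le_Bs h a)]
  rw [e1, e1, cj_inf, cj_eq_self hx.2, cj_Gam, e]

theorem exists_chi {k : ℕ} (hk : Fintype.card ι = 2 ^ k) : ∃ χ τ, Chi V z S χ τ := by
  obtain ⟨o⟩ : Nonempty ι := Fintype.card_pos_iff.1 (by rw [hk]; positivity)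
  obtain ⟨φ, h1, h2⟩ := h.exists_phi fu (fr.pi o) (fr.syl_Gam h hS o)
  choose s hs hs' using fr.trans h fu hS hk o
  have hsN := fun a => fr.le_NN h fu hS (hs a)
  have key : ∀ x ∈ NN z S, ∀ a b, x * z a * x⁻¹ = z b →
      (s b)⁻¹ * x * s a ∈ centralizer {z o} ⊓ 𝐍(S ⊓ Gam V (z o)) := by
    intro x hx a b e
    have e1 : (s b)⁻¹ * x * s a * z o * ((s b)⁻¹ * x * s a)⁻¹ = z o := by
      calc _ = (s b)⁻¹ * (x * (s a * z o * (s a)⁻¹) * x⁻¹) * s b := by group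
        _ = _ := by rw [hs', e, ← hs']; group
    exact ⟨mem_centralizer_singleton_iff.2 (mul_inv_eq_iff_eq_mul.1 e1), cj_eq_self_iff.1
      (fr.cj_R h fu hS (mul_mem (mul_mem (inv_mem (hsN b)) hx) (hsN a)) e1)⟩
  classical
  let σ : G → Equiv.Perm ι := fun x => if hx : x ∈ St z then hx.choose else 1
  have hσ : ∀ x ∈ St z, ∀ a, x * z a * x⁻¹ = z (σ x a) := fun x hx a => by
    simp only [σ, dif_pos hx]
    exact hx.choose_spec a
  refine ⟨fun a y => φ ((s a)⁻¹ * y * s a), fun x => ∑ a, φ ((s (σ x a))⁻¹ * x * s a),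
    fun x hx y hy => ?_, fun y hy => ?_, fun a x hx y hy => ?_, fun a y hy => ?_,
    fun x hx y hy a b e => ?_⟩
  · rw [← Equiv.sum_comp (σ y) fun a => φ ((s (σ x a))⁻¹ * x * s a), ← Finset.sum_add_distrib]
    refine Finset.sum_congr rfl fun a _ => ?_
    have e : σ (x * y) a = σ x (σ y a) := fr.inj h (by
      rw [← hσ _ (mul_mem hx.1 hy.1), ← hσ _ hx.1, ← hσ _ hy.1]; group)
    rw [← h1 _ (key x hx _ _ (hσ x hx.1 _)) _ (key y hy _ _ (hσ y hy.1 _)), e]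
    congr 1
    group
  · refine Finset.sum_congr rfl fun a _ => ?_
    rw [fr.inj h ((hσ y (Bs_le_St z hy) a).symm.trans (mem_Bs.1 hy a))]
  · rw [← h1 _ (key x hx.1 _ _ (mem_Bs.1 hx.2 a)) _ (key y hy.1 _ _ (mem_Bs.1 hy.2 a))]
    congr 1
    group
  · rw [h2 _ (key y hy.1 _ _ (mem_Bs.1 hy.2 a)), ← ag_conj_iff (hs a), hs']
    simp [mul_assoc]
  · rw [← h1.conj (key x hx a b e) (key y hy.1 _ _ (mem_Bs.1 hy.2 a))]
    congr 1
    group

variable {χ : ι → G → ZMod 3} {τ : G → ZMod 3} (ch : Chi V z S χ τ) {k : ℕ}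
  (hk : Fintype.card ι = 2 ^ k)
include ch

theorem ag_of_mem {x : G} (hx : x ∈ S) (hx' : x ∈ Bs z) (a : ι) : Ag V S (z a) x :=
  (ch.ag a x ⟨fr.le_NN h fu hS hx, hx'⟩).1
    ((ch.add' a).two hS.isPGroup ⟨fr.le_NN h fu hS hx, hx'⟩ hx)

include hk

theorem chi_const {g : G} (hg : g ∈ 𝐍(S)) (hg' : g ∈ Bs z) (a b : ι) : χ a g = χ b g := by
  obtain ⟨s, hs, e⟩ := fr.trans h fu hS hk a b
  have h1 : g ∈ NN z S ⊓ Bs z := ⟨fr.norm_le_NN h fu hS hg, hg'⟩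
  have h2 : s * (g * s⁻¹ * g⁻¹) ∈ S := mul_mem hs (conj_mem_of_mem_normalizer hg (inv_mem hs))
  have h3 : s * (g * s⁻¹ * g⁻¹) ∈ NN z S ⊓ Bs z := mem_inf.2 ⟨fr.le_NN h fu hS h2, by
    have := mul_mem (conj_mem_of_mem_normalizer (St_le_norm_Bs z (hS.le hs)) hg') (inv_mem hg')
    simpa only [mul_assoc] using this⟩
  rw [← ch.conj s (fr.le_NN h fu hS hs) g h1 a b e, show s * g * s⁻¹ = s * (g * s⁻¹ * g⁻¹) * g by
    group, ch.add' b _ h3 _ h1, (ch.add' b).two hS.isPGroup h3 h2, zero_add]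

theorem mem_of_chi {g : G} (hg : g ∈ 𝐍(S)) (hg' : g ∈ Bs z) {a : ι} (e : χ a g = 0) : g ∈ S :=
  fr.mem_of_agree h fun b => (ch.ag b g ⟨fr.norm_le_NN h fu hS hg, hg'⟩).1
    ((fr.chi_const h fu hS ch hk hg hg' b a).trans e)

theorem mem_of_tau {g : G} (hg : g ∈ 𝐍(S)) (e : τ g = 0) : g ∈ S := by
  obtain ⟨o⟩ : Nonempty ι := Fintype.card_pos_iff.1 (by rw [hk]; positivity)
  obtain ⟨s, hs, h1⟩ := fr.norm_dec h fu hS hg
  have h2 : s⁻¹ * g ∈ 𝐍(S) := mul_mem (le_normalizer (inv_mem hs)) hg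
  have h3 := ch.sum _ h1
  rw [ch.add _ (fr.le_NN h fu hS (inv_mem hs)) _ (fr.norm_le_NN h fu hS hg), e,
    ch.add.two hS.isPGroup (fr.le_NN h fu hS (inv_mem hs)) (inv_mem hs),
    Finset.sum_congr rfl fun a _ => fr.chi_const h fu hS ch hk h2 h1 a o, Finset.sum_const,
    Finset.card_univ, hk, add_zero, nsmul_eq_mul, eq_comm, mul_eq_zero] at h3
  have := mul_mem hs (fr.mem_of_chi h fu hS ch hk h2 h1 (h3.resolve_left (by
    push_cast
    exact pow_ne_zero k (by decide))))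
  rwa [mul_inv_cancel_left] at this

theorem comm_mem {g g' : G} (hg : g ∈ 𝐍(S)) (hg' : g' ∈ 𝐍(S)) : g * g' * g⁻¹ * g'⁻¹ ∈ S := by
  have h1 := fr.norm_le_NN h fu hS hg
  have h2 := fr.norm_le_NN h fu hS hg'
  refine fr.mem_of_tau h fu hS ch hk (mul_mem (mul_mem (mul_mem hg hg') (inv_mem hg)) (inv_mem hg')) ?_
  rw [ch.add _ (mul_mem (mul_mem h1 h2) (inv_mem h1)) _ (inv_mem h2), ch.add.conj h1 h2,
    ch.add.inv h2, add_neg_cancel]

theorem norm_le {K : Subgroup G} (hK : S ≤ K) {y : G} (hy : y ∈ K) (hy' : y ∈ NN z S)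
    (e : τ y ≠ 0) : 𝐍(S) ≤ K := by
  obtain ⟨m, hm, e'⟩ := ch.add.exists_norm (fr.syl_top h fu hS) hK (fr.le_NN h fu hS) hy hy'
  rw [← e'] at e
  intro g hg
  obtain ⟨n, hn⟩ : ∃ n : ℕ, τ g + n * τ m = 0 := by
    revert e
    generalize τ g = u
    generalize τ m = v
    intro e
    refine ⟨(-u * v).val, ?_⟩
    rw [ZMod.natCast_zmod_val]
    revert u v
    decide
  have h1 := fr.norm_le_NN h fu hS hm.2
  have := hK (fr.mem_of_tau h fu hS ch hk (mul_mem hg (pow_mem hm.2 n)) (by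
    rw [ch.add _ (fr.norm_le_NN h fu hS hg) _ (pow_mem h1 n), ch.add.pow h1, hn]))
  simpa using mul_mem this (inv_mem (pow_mem hm.1 n))

end Fr

end CF.PnSp
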